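import Cfsg.Agent.Classical.OrthIndex
import Cfsg.Agent.Arith.Zsigmondy

/-!
A special orthogonal group in odd dimension `2n+1` has no element of order `p (q^(n-1) + 1)` in
its derived subgroup.
-/

namespace Cfsg.Agent.SpecBC

open Module QuadraticMap Cfsg.Agent.Classical

variable {F : Type*} [Field F] {V : Type*} [AddCommGroup V] [Module F V]
  {Q : QuadraticForm F V}

/-- an isometry as an endomorphism -/
def toEnd (Q : QuadraticForm F V) : OQ Q →* Module.End F V where
  toFun g := g.1.toLinearMap
  map_one' := rfl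
  map_mul' _ _ := rfl

theorem toEnd_apply (g : OQ Q) (v : V) : toEnd Q g v = g.1 v := rfl

theorem toEnd_injective : Function.Injective (toEnd Q) := fun _ _ h =>
  Subtype.ext (LinearEquiv.toLinearMap_injective h)

theorem polar_toEnd (g : OQ Q) (v w : V) :
    polar Q (toEnd Q g v) (toEnd Q g w) = polar Q v w := by
  simp only [polar, toEnd_apply, ← map_add, OQ_map_app]

variable [Finite F] [Finite V]

/-- fixed-point-free automorphism of prime order on an invariant subspace -/
theorem dvd_finrank_of_free {r d : ℕ} [hr : Fact r.Prime] (hd : orderOf (Nat.card F : ZMod r) = d)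
    {T : Module.End F V} (hT : T ^ r = 1) (U : Submodule F V) (hU : ∀ x ∈ U, T x ∈ U)
    (hfree : ∀ x ∈ U, T x = x → x = 0) : d ∣ finrank F U := by
  classical
  haveI : Fintype U := Fintype.ofFinite U
  let f : Function.End U := fun x => ⟨T x.1, hU x.1 x.2⟩
  have hpow : ∀ (i : ℕ) (x : U), ((f ^ i) x).1 = (T ^ i) x.1 := by
    intro i
    induction i with
    | zero => intro x; rfl
    | succ i ih =>
      intro x
      rw [pow_succ, pow_succ, Module.End.mul_apply, ← show (f x).1 = T x.1 from rfl, ← ih]
      rfl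
  have hf : f ^ r ^ 1 = 1 := funext fun x => Subtype.ext (by rw [pow_one, hpow, hT]; rfl)
  have h := Equiv.Perm.card_fixedPoints_modEq hf
  have h1 : Fintype.card f.fixedPoints = 1 := by
    refine Fintype.card_eq_one_iff.2 ⟨⟨0, Subtype.ext (map_zero T)⟩, fun x => ?_⟩
    exact Subtype.ext (Subtype.ext (hfree x.1.1 x.1.2 (congrArg Subtype.val x.2)))
  rw [h1, ← Nat.card_eq_fintype_card, Module.natCard_eq_pow_finrank (K := F)] at h
  have h2 := (ZMod.natCast_eq_natCast_iff _ _ _).2 h
  rw [Nat.cast_pow, Nat.cast_one] at h2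
  exact hd ▸ orderOf_dvd_of_pow_eq_one h2

theorem pow_apply_eigen {T : Module.End F V} {a : F} {e : V} (he : T e = a • e) (i : ℕ) :
    (T ^ i) e = a ^ i • e := by
  induction i with
  | zero => simp
  | succ i ih => rw [pow_succ', Module.End.mul_apply, ih, map_smul, he, smul_smul, pow_succ]

theorem pow_apply_jordan {T : Module.End F V} {a c : F} {e x : V} (he : T e = a • e)
    (hx : T x = a • x + c • e) (i : ℕ) :
    (T ^ i) x = a ^ i • x + ((i : F) * a ^ (i - 1) * c) • e := by
  induction i with
  | zero => simp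
  | succ i ih =>
    rw [pow_succ', Module.End.mul_apply, ih, map_add, map_smul, map_smul, he, hx, smul_add, smul_smul,
      smul_smul, smul_smul, add_assoc, ← add_smul, pow_succ, Nat.add_sub_cancel]
    congr 2
    rcases i with _ | i
    · simp
    · rw [Nat.add_sub_cancel, pow_succ]
      push_cast
      ring

theorem det_eq_neg_one (hB : BNondeg Q) (g : OQ Q) (hfix : ∀ v, toEnd Q g v = v → v = 0)
    (hodd : Odd (finrank F V)) : LinearMap.det (toEnd Q g) = -1 := by
  classical
  let b := Module.finBasis F V
  set n := finrank F V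
  let J : Matrix (Fin n) (Fin n) F := Matrix.of fun i j => polar Q (b i) (b j)
  set S := LinearMap.toMatrix b b (toEnd Q g) with hS
  have hJinj : ∀ c, Matrix.mulVec J c = 0 → c = 0 := by
    intro c hc
    have hz : ∑ j, c j • b j = 0 := by
      refine hB _ fun y => ?_
      have hpol : ∀ i, (polarBilin Q (∑ j, c j • b j)) (b i) = 0 := by
        intro i
        have := congrFun hc i
        simp only [Matrix.mulVec, dotProduct, J, Matrix.of_apply, Pi.zero_apply] at this
        rw [map_sum, LinearMap.sum_apply]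
        simp only [map_smul, LinearMap.smul_apply, polarBilin_apply_apply, smul_eq_mul]
        rw [← this]
        exact Finset.sum_congr rfl fun j _ => by rw [polar_comm, mul_comm]
      have : polarBilin Q (∑ j, c j • b j) = 0 := b.ext hpol
      exact congrArg (· y) this
    exact funext fun j => Fintype.linearIndependent_iff.1 b.linearIndependent c hz j
  have hJ : J.det ≠ 0 := fun h0 => by
    obtain ⟨c, hc, hc0⟩ := Matrix.exists_mulVec_eq_zero_iff.2 h0
    exact hc (hJinj c hc0)
  have hrel : S.transpose * J * S = J := by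
    ext i j
    have h := polar_toEnd g (b i) (b j)
    rw [← b.sum_repr (toEnd Q g (b i)), ← b.sum_repr (toEnd Q g (b j)), ← polarBilin_apply_apply] at h
    simp only [map_sum, LinearMap.sum_apply, map_smul, LinearMap.smul_apply, polarBilin_apply_apply,
      smul_eq_mul] at h
    simp only [Matrix.mul_apply, Matrix.transpose_apply, hS, LinearMap.toMatrix_apply, J, Matrix.of_apply,
      Finset.sum_mul]
    rw [← h]
    refine Finset.sum_congr rfl fun x _ => ?_
    rw [Finset.mul_sum]
    exact Finset.sum_congr rfl fun y _ => by ring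
  have hS1 : (S - 1).det ≠ 0 := fun h0 => by
    obtain ⟨c, hc, hc0⟩ := Matrix.exists_mulVec_eq_zero_iff.2 h0
    rw [Matrix.sub_mulVec, Matrix.one_mulVec, sub_eq_zero] at hc0
    refine hc (funext fun j => Fintype.linearIndependent_iff.1 b.linearIndependent c (hfix _ ?_) j)
    refine b.repr.injective (Finsupp.ext fun i => ?_)
    have h1 : b.repr (∑ j, c j • b j) = Finsupp.equivFunOnFinite.symm c := by
      ext i; simp [Finsupp.single_apply]
    rw [h1]
    have h2 := congrFun (LinearMap.toMatrix_mulVec_repr b b (toEnd Q g) (∑ j, c j • b j)) i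
    rw [h1] at h2
    simp only [Finsupp.coe_equivFunOnFinite_symm, ← hS, hc0] at h2 ⊢
    exact h2.symm
  have e : (S - 1).transpose * J * S = -(J * (S - 1)) := by
    rw [Matrix.transpose_sub, Matrix.transpose_one, Matrix.sub_mul, Matrix.sub_mul, Matrix.one_mul,
      hrel, Matrix.mul_sub, Matrix.mul_one, neg_sub]
  have hd := congrArg Matrix.det e
  rw [Matrix.det_mul, Matrix.det_mul, Matrix.det_transpose, Matrix.det_neg, Matrix.det_mul,
    Fintype.card_fin, hodd.neg_one_pow, hS, LinearMap.det_toMatrix] at hd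
  apply mul_left_cancel₀ (mul_ne_zero hS1 hJ)
  linear_combination hd

/-- sign of a permutation all of whose moved points have the same even period -/
theorem sign_semiregular {α : Type*} [Fintype α] [DecidableEq α] (σ : Equiv.Perm α) {N : ℕ}
    (hN : Even N) (hN0 : 0 < N) (hfree : ∀ x, σ x ≠ x → ∀ i : ℕ, (σ ^ i) x = x ↔ N ∣ i) (M : ℕ)
    (hM : σ.support.card = N * M) (hodd : Odd M) : Equiv.Perm.sign σ = -1 := by
  classical
  have hmem : ∀ k ∈ σ.cycleType, k = N := by
    intro k hk
    rw [Equiv.Perm.cycleType_def, Multiset.mem_map] at hk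
    obtain ⟨c, hc, rfl⟩ := hk
    rw [Finset.mem_val, Equiv.Perm.mem_cycleFactorsFinset_iff] at hc
    obtain ⟨hcyc, hσc⟩ := hc
    obtain ⟨x, hx⟩ := hcyc.nonempty_support
    have hσx : σ x ≠ x := by
      rw [← hσc x hx]; exact Equiv.Perm.mem_support.1 hx
    have hpow : ∀ i : ℕ, (σ ^ i) x = (c ^ i) x := by
      intro i
      induction i with
      | zero => rfl
      | succ i ih =>
        rw [pow_succ', pow_succ', Equiv.Perm.mul_apply, Equiv.Perm.mul_apply, ih]
        exact (hσc _ (Equiv.Perm.pow_apply_mem_support.2 hx)).symm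
    refine Nat.dvd_antisymm ?_ ?_
    · have h1 : (c ^ N) x = x := by rw [← hpow]; exact (hfree x hσx N).2 dvd_rfl
      simp only [Function.comp_apply]
      rw [← hcyc.orderOf, orderOf_dvd_iff_pow_eq_one,
        hcyc.pow_eq_one_iff' (Equiv.Perm.mem_support.1 hx)]
      exact h1
    · simp only [Function.comp_apply]
      refine (hfree x hσx _).1 ?_
      rw [hpow, ← hcyc.orderOf, pow_orderOf_eq_one]
      rfl
  have hrep := Multiset.eq_replicate_card.2 hmem
  rw [← Equiv.Perm.sum_cycleType, hrep, Multiset.sum_replicate, smul_eq_mul] at hM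
  have hc : σ.cycleType.card = M := Nat.eq_of_mul_eq_mul_left hN0 ((mul_comm _ _).trans hM)
  rw [Equiv.Perm.sign_of_cycleType, hrep, Multiset.sum_replicate, Multiset.card_replicate, hc,
    smul_eq_mul]
  exact ((hN.mul_left M).add_odd hodd).neg_one_pow

theorem polar_nilpart (g : OQ Q) (v w : V) :
    polar Q ((toEnd Q g - 1) v) w + polar Q v ((toEnd Q g - 1) w) +
      polar Q ((toEnd Q g - 1) v) ((toEnd Q g - 1) w) = 0 := by
  have h := polar_toEnd g v w
  rw [show toEnd Q g v = v + (toEnd Q g - 1) v by simp,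
    show toEnd Q g w = w + (toEnd Q g - 1) w by simp, polar_add_left, polar_add_right,
    polar_add_right] at h
  linear_combination h

omit [Finite F] [Finite V] in
theorem count_ternary [Fintype F] [DecidableEq F] {D P : F} (A B : F) (hD : D ≠ 0) (hP : P ≠ 0)
    (h2 : (2 : F) ≠ 0) :
    ((Finset.univ.filter fun t : F × F × F =>
      t.2.1 ^ 2 * D + t.2.2 * (t.1 * P + t.2.1 * B + t.2.2 * A) = 1).card : ℤ) =
        (Fintype.card F : ℤ) ^ 2 - Fintype.card F ∨
    ((Finset.univ.filter fun t : F × F × F =>
      t.2.1 ^ 2 * D + t.2.2 * (t.1 * P + t.2.1 * B + t.2.2 * A) = 1).card : ℤ) =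
        (Fintype.card F : ℤ) ^ 2 + Fintype.card F := by
  set S := Finset.univ.filter fun t : F × F × F =>
      t.2.1 ^ 2 * D + t.2.2 * (t.1 * P + t.2.1 * B + t.2.2 * A) = 1
  set R := Finset.univ.filter fun b : F => b ^ 2 * D = 1
  have hfib : ∀ bg : F × F, (S.filter fun t => t.2 = bg).card =
      if bg.2 = 0 then (if bg.1 ^ 2 * D = 1 then Fintype.card F else 0) else 1 := by
    rintro ⟨b, c⟩
    by_cases hc : c = 0
    · subst hc
      rw [if_pos rfl]
      by_cases hb : b ^ 2 * D = 1
      · rw [if_pos hb, ← Finset.card_univ]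
        refine Finset.card_bij' (fun t _ => t.1) (fun a _ => (a, b, 0)) ?_ ?_ ?_ ?_
        · intro t _; exact Finset.mem_univ _
        · intro a _; simp [S, hb]
        · intro t ht
          rw [Finset.mem_filter] at ht
          exact Prod.ext rfl ht.2.symm
        · intro a _; rfl
      · rw [if_neg hb, Finset.card_eq_zero, Finset.filter_eq_empty_iff]
        intro t ht he
        simp only [S, Finset.mem_filter, Finset.mem_univ, true_and, he, zero_mul, add_zero] at ht
        exact hb ht
    · rw [if_neg hc, Finset.card_eq_one]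
      refine ⟨(((1 - b ^ 2 * D) / c - b * B - c * A) / P, b, c), Finset.ext fun t => ?_⟩
      simp only [S, Finset.mem_filter, Finset.mem_univ, true_and, Finset.mem_singleton]
      constructor
      · rintro ⟨h, he⟩
        refine Prod.ext ?_ he
        rw [he] at h
        change t.1 = _
        rw [← h]
        field_simp
        ring
      · rintro rfl
        refine ⟨?_, rfl⟩
        field_simp
        ring
  have hR : R.card = 0 ∨ R.card = 2 := by
    rcases R.eq_empty_or_nonempty with h | ⟨b, hb⟩
    · left; rw [h, Finset.card_empty]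
    · right
      have hb' : b ^ 2 * D = 1 := (Finset.mem_filter.1 hb).2
      have hb0 : b ≠ 0 := by rintro rfl; simp at hb'
      have : R = {b, -b} := by
        ext x
        simp only [R, Finset.mem_filter, Finset.mem_univ, true_and, Finset.mem_insert,
          Finset.mem_singleton]
        constructor
        · intro hx
          have : (x - b) * (x + b) * D = 0 := by linear_combination hx - hb'
          rcases mul_eq_zero.1 ((mul_eq_zero.1 this).resolve_right hD) with h | h
          · exact Or.inl (sub_eq_zero.1 h)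
          · exact Or.inr (eq_neg_of_add_eq_zero_left h)
        · rintro (rfl | rfl)
          · exact hb'
          · linear_combination hb'
      rw [this, Finset.card_pair]
      intro he
      exact hb0 ((mul_eq_zero.1 (by linear_combination he : (2 : F) * b = 0)).resolve_left h2)
  have htot : (S.card : ℤ) = (Fintype.card F : ℤ) * R.card +
      (Fintype.card F : ℤ) * ((Fintype.card F : ℤ) - 1) := by
    rw [Finset.card_eq_sum_card_fiberwise (f := fun t => t.2) (t := Finset.univ)
      (fun t _ => Finset.mem_univ _), Finset.sum_congr rfl fun bg _ => hfib bg, Nat.cast_sum,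
      Fintype.sum_prod_type]
    have : ∀ b : F, ∑ c : F, (((if c = 0 then (if b ^ 2 * D = 1 then Fintype.card F else 0) else 1 : ℕ)) : ℤ) =
        (if b ^ 2 * D = 1 then (Fintype.card F : ℤ) else 0) + ((Fintype.card F : ℤ) - 1) := by
      intro b
      rw [← Finset.add_sum_erase _ _ (Finset.mem_univ (0 : F)), if_pos rfl,
        Finset.sum_congr rfl fun c hc => by rw [if_neg (Finset.ne_of_mem_erase hc), Nat.cast_one],
        Finset.sum_const, Finset.card_erase_of_mem (Finset.mem_univ _), Finset.card_univ,
        nsmul_eq_mul, mul_one, Nat.cast_sub Fintype.card_pos]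
      push_cast
      rfl
    simp only at this ⊢
    rw [Finset.sum_congr rfl fun b _ => this b, Finset.sum_add_distrib, Finset.sum_const, ← Finset.sum_filter,
      Finset.sum_const, Finset.card_univ]
    simp only [nsmul_eq_mul, R]
    ring
  rcases hR with h | h <;> rw [htot, h]
  · left; push_cast; ring
  · right; push_cast; ring

/-- no element of order `p (q^(n-1) + 1)` in the derived subgroup -/
theorem orderOf_ne_of_commutator {p q n : ℕ} [hp : Fact p.Prime] [CharP F p]
    (hq : Nat.card F = q) (h2 : (2 : F) ≠ 0) (hn : 3 ≤ n) (hdim : finrank F V = 2 * n + 1)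
    (hB : BNondeg Q)
    (hcount : Nat.card {v // Q v = 1} = q ^ (2 * n) + q ^ n)
    {g : OQ Q} (hg : g ∈ commutator (OQ Q)) : orderOf g ≠ p * (q ^ (n - 1) + 1) := by
  classical
  intro hord
  haveI : Fintype F := Fintype.ofFinite F
  haveI : Fintype V := Fintype.ofFinite V
  obtain ⟨m, rfl⟩ : ∃ m, n = m + 3 := ⟨n - 3, by omega⟩
  set N := q ^ (m + 3 - 1) + 1 with hN
  have hq2 : 2 ≤ q := by rw [← hq]; exact Finite.one_lt_card
  obtain ⟨f, hpf, hqf⟩ : ∃ f : ℕ, p.Prime ∧ q = p ^ f ∧ 0 < f := by
    obtain ⟨f, hp', hqf⟩ := FiniteField.card F p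
    exact ⟨f, hp', by rw [← hq, Nat.card_eq_fintype_card, hqf], f.pos⟩
  have hp3 : 3 ≤ p := by
    rcases hp.out.eq_two_or_odd with rfl | h
    · exact absurd (CharP.cast_eq_zero F 2) (by simpa using h2)
    · have := hp.out.two_le
      omega
  have hNeven : Even N := by
    rw [hN, hqf.1]
    exact (((hp.out.odd_of_ne_two (by omega)).pow).pow).add_odd odd_one
  have hNpos : 0 < N := Nat.succ_pos _
  have hN2 : 2 < N := by
    have : q ≤ q ^ (m + 3 - 1) := Nat.le_self_pow (by omega) _
    have : q ^ 2 ≤ q ^ (m + 3 - 1) := Nat.pow_le_pow_right (by omega) (by omega)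
    have : 4 ≤ q ^ 2 := by nlinarith
    omega
  have hpN : ¬ p ∣ N := by
    intro h
    have h1 : p ∣ q ^ (m + 3 - 1) := by
      rw [hqf.1]; exact dvd_pow (dvd_pow_self p hqf.2.ne') (by omega)
    exact hp.out.one_lt.ne' (Nat.dvd_one.1 ((Nat.dvd_add_right h1).1 h))
  -- primitive prime
  obtain ⟨r, hr, hord_r⟩ := Arith.exists_prime_orderOf_eq (a := q) (n := 2 * (m + 2))
    (by omega) (by omega) (fun h => by
      have := h.1
      rw [hqf.1] at this
      have hdvd : p ∣ 2 := this ▸ dvd_pow_self p hqf.2.ne'
      have := Nat.le_of_dvd (by norm_num) hdvd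
      omega) (fun h => by omega)
  haveI : Fact r.Prime := ⟨hr⟩
  have hr1 : (q : ZMod r) ^ (2 * (m + 2)) = 1 := hord_r ▸ pow_orderOf_eq_one _
  have hrN : r ∣ N := by
    set x := (q : ZMod r) ^ (m + 2) with hx
    have hx2 : x * x = 1 := by rw [hx, ← pow_add, ← two_mul, hr1]
    have hx1 : x ≠ 1 := by
      intro h1
      have := Nat.le_of_dvd (by omega) (hord_r ▸ orderOf_dvd_of_pow_eq_one h1)
      omega
    rcases mul_self_eq_one_iff.1 hx2 with h | h
    · exact absurd h hx1
    · rw [← ZMod.natCast_eq_zero_iff, hN, show m + 3 - 1 = m + 2 from rfl]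
      push_cast
      rw [← hx, h, neg_add_cancel]
  have hrp : r ≠ p := fun h => hpN (h ▸ hrN)
  have hrF : (r : F) ≠ 0 := by
    rw [Ne, CharP.cast_eq_zero_iff F p]
    exact fun h => hrp ((Nat.prime_dvd_prime_iff_eq hp.out hr).1 h).symm
  have hord' : orderOf (Nat.card F : ZMod r) = 2 * (m + 2) := by rw [hq]; exact hord_r
  -- the commuting family
  set G : Module.End F V := toEnd Q g
  have hordG : orderOf G = p * N := by rw [orderOf_injective _ toEnd_injective]; exact hord
  set s := G ^ p with hs
  set t := s ^ (N / r) with ht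
  set u := G ^ N with hu
  have hsN : s ^ N = 1 := by rw [hs, ← pow_mul, ← hordG, pow_orderOf_eq_one]
  have hsone : ∀ i, s ^ i = 1 → N ∣ i := fun i hi => by
    rw [hs, ← pow_mul, ← orderOf_dvd_iff_pow_eq_one, hordG] at hi
    exact (Nat.mul_dvd_mul_iff_left hp.out.pos).1 hi
  have hup : u ^ p = 1 := by rw [hu, ← pow_mul, mul_comm, ← hordG, pow_orderOf_eq_one]
  have hu1 : u ≠ 1 := by
    intro h
    rw [hu, ← orderOf_dvd_iff_pow_eq_one, hordG] at h
    have := Nat.le_of_dvd hNpos h
    nlinarith
  have htr : t ^ r = 1 := by rw [ht, ← pow_mul, Nat.div_mul_cancel hrN, hsN]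
  have ht1 : t ≠ 1 := by
    intro h
    rw [ht] at h
    have := Nat.le_of_dvd (Nat.div_pos (Nat.le_of_dvd hNpos hrN) hr.pos) (hsone _ h)
    exact absurd this (not_le.2 (Nat.div_lt_self hNpos hr.one_lt))
  set W := LinearMap.range (t - 1)
  set V0 := LinearMap.ker (t - 1)
  have mem0 : ∀ {x}, x ∈ V0 ↔ t x = x := fun {x} => by
    simp [V0, LinearMap.mem_ker, sub_eq_zero]
  have hinvW : ∀ {T : Module.End F V}, Commute T t → ∀ x ∈ W, T x ∈ W := by
    rintro T hT x ⟨y, rfl⟩
    exact ⟨T y, by
      simp only [LinearMap.sub_apply, Module.End.one_apply, map_sub]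
      rw [← Module.End.mul_apply, ← hT.eq, Module.End.mul_apply]⟩
  have hinv0 : ∀ {T : Module.End F V}, Commute T t → ∀ x ∈ V0, T x ∈ V0 := fun {T} hT x hx => by
    rw [mem0] at hx ⊢
    rw [← Module.End.mul_apply, ← hT.eq, Module.End.mul_apply, hx]
  have hdisj : ∀ x ∈ W, t x = x → x = 0 := by
    rintro x ⟨y, rfl⟩ hfix
    set d := (t - 1) y with hd
    have hty : t y = y + d := by rw [hd]; simp
    have hi : ∀ i : ℕ, (t ^ i) y = y + i • d := by
      intro i
      induction i with
      | zero => simp
      | succ i ih =>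
        rw [pow_succ', Module.End.mul_apply, ih, map_add, map_nsmul, hfix, hty, add_nsmul, one_nsmul]
        abel
    have h := hi r
    rw [htr, Module.End.one_apply, left_eq_add, ← Nat.cast_smul_eq_nsmul F, smul_eq_zero] at h
    exact h.resolve_left hrF
  have hsum : finrank F W + finrank F V0 = 2 * (m + 3) + 1 := by
    rw [← hdim]; exact LinearMap.finrank_range_add_finrank_ker (t - 1)
  have hWdim : finrank F W = 2 * (m + 2) := by
    have hdvd := dvd_finrank_of_free hord' htr W (hinvW (Commute.refl t)) hdisj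
    have hne : finrank F W ≠ 0 := by
      rw [Ne, Submodule.finrank_eq_zero, LinearMap.range_eq_bot, sub_eq_zero]
      exact ht1
    obtain ⟨c, hc⟩ := hdvd
    rcases c with _ | _ | c
    · exact absurd hc (by simpa using hne)
    · simpa using hc
    · exfalso
      rw [hc] at hsum
      nlinarith
  have hV0dim : finrank F V0 = 3 := by omega
  have hdec : ∀ v, ∃ x ∈ V0, ∃ w ∈ W, x + w = v := by
    intro v
    have htop : V0 ⊔ W = ⊤ := by
      refine Submodule.eq_top_of_disjoint _ _ (by rw [hdim]; omega) ?_
      rw [Submodule.disjoint_def]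
      exact fun x hx hx' => hdisj x hx' (mem0.1 hx)
    exact Submodule.mem_sup.1 (htop ▸ Submodule.mem_top (x := v))
  have horth : ∀ {x w}, x ∈ V0 → w ∈ W → polar Q x w = 0 := by
    rintro x w hx ⟨y, rfl⟩
    have ht' : t = toEnd Q ((g ^ p) ^ (N / r)) := by rw [map_pow, map_pow]
    rw [LinearMap.sub_apply, Module.End.one_apply, polar_sub_right]
    conv_lhs => arg 1; rw [← mem0.1 hx, ht', polar_toEnd]
    rw [sub_self]
  -- commuting maps on the irreducible part
  have hirr : ∀ {T : Module.End F V}, Commute T t → ∀ x ∈ W, x ≠ 0 → T x = 0 → ∀ w ∈ W, T w = 0 := by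
    intro T hT x hx hx0 hTx w hw
    set U := W ⊓ LinearMap.ker T
    have hU : ∀ z ∈ U, t z ∈ U := fun z hz => ⟨hinvW (Commute.refl t) z hz.1, by
      change T (t z) = 0
      rw [← Module.End.mul_apply, hT.eq, Module.End.mul_apply, LinearMap.mem_ker.1 hz.2, map_zero]⟩
    have hd := dvd_finrank_of_free hord' htr U hU fun z hz hf => hdisj z hz.1 hf
    have hne : finrank F U ≠ 0 := by
      rw [Ne, Submodule.finrank_eq_zero]
      intro h
      exact hx0 ((Submodule.mem_bot F).1 (h ▸ (show x ∈ U from ⟨hx, hTx⟩)))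
    have hUW : U = W := Submodule.eq_of_le_of_finrank_le inf_le_left (by
      rw [hWdim]; exact Nat.le_of_dvd (Nat.pos_of_ne_zero hne) hd)
    exact LinearMap.mem_ker.1 ((hUW.symm ▸ hw : w ∈ U).2)
  have hcomm_s : Commute s t := (Commute.refl s).pow_right _
  have hcomm_u : Commute u t := (((Commute.refl G).pow_left N).pow_right p).pow_right _
  have hcomm_us : Commute u s := ((Commute.refl G).pow_left N).pow_right p
  obtain ⟨w0, hw0, hw0ne⟩ : ∃ x ∈ W, x ≠ 0 :=
    W.exists_mem_ne_zero_of_ne_bot (fun h => by rw [h, finrank_bot] at hWdim; omega)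
  -- `u` is the identity on `W`
  haveI : Nontrivial (Module.End F V) := ⟨⟨t, 1, ht1⟩⟩
  haveI : CharP (Module.End F V) p :=
    charP_of_injective_algebraMap (algebraMap F (Module.End F V)).injective p
  set K := u - 1 with hK
  have hKp : K ^ p = 0 := by rw [hK, sub_pow_char_of_commute p (Commute.one_right u), hup, one_pow, sub_self]
  have hKW : ∀ w ∈ W, K w = 0 := by
    have hex : ∃ k, (K ^ k) w0 = 0 := ⟨p, by rw [hKp]; rfl⟩
    set k := Nat.find hex
    have hk : (K ^ k) w0 = 0 := Nat.find_spec hex
    have hk0 : k ≠ 0 := fun h => hw0ne (by rw [h] at hk; simpa using hk)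
    have hKt : Commute K t := hcomm_u.sub_left (Commute.one_left t)
    refine hirr hKt ((K ^ (k - 1)) w0) (hinvW (hKt.pow_left _) w0 hw0)
      (Nat.find_min hex (by omega)) ?_
    rw [← Module.End.mul_apply, ← pow_succ', Nat.sub_add_cancel (Nat.pos_of_ne_zero hk0)]
    exact hk
  have hKrange : ∀ v, K v ∈ V0 := by
    intro v
    obtain ⟨x, hx, w, hw, rfl⟩ := hdec v
    rw [map_add, hKW w hw, add_zero]
    exact hinv0 (hcomm_u.sub_left (Commute.one_left t)) x hx
  have hKne : ∃ x ∈ V0, K x ≠ 0 := by
    by_contra! h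
    refine hu1 (sub_eq_zero.1 (LinearMap.ext fun v => ?_))
    obtain ⟨x, hx, w, hw, rfl⟩ := hdec v
    rw [← hK, map_add, h x hx, hKW w hw, add_zero, LinearMap.zero_apply]
  have hB0 : ∀ x ∈ V0, (∀ y ∈ V0, polar Q x y = 0) → x = 0 := fun x hx h => hB x fun y => by
    obtain ⟨y0, hy0, w, hw, rfl⟩ := hdec y
    rw [polar_add_right, h y0 hy0, horth hx hw, add_zero]
  have hu' : u = toEnd Q (g ^ N) := (map_pow _ g N).symm
  have hpol : ∀ v w, polar Q (K v) w + polar Q v (K w) + polar Q (K v) (K w) = 0 := by
    intro v w; rw [hK, hu']; exact polar_nilpart _ v w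
  -- the unipotent part is regular on `V0`
  have hK2 : ∃ x ∈ V0, K (K x) ≠ 0 := by
    by_contra! h0
    have hKK : ∀ v, K (K v) = 0 := by
      intro v
      obtain ⟨x, hx, w, hw, rfl⟩ := hdec v
      rw [map_add, map_add, h0 x hx, hKW w hw, map_zero, add_zero]
    have hiso : ∀ v w, polar Q (K v) (K w) = 0 := by
      intro v w
      have := hpol v (K w)
      rw [hKK w] at this
      simpa using this
    have hskew : ∀ v w, polar Q (K v) w = -polar Q v (K w) := by
      intro v w
      have := hpol v w
      rw [hiso, add_zero] at this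
      linear_combination this
    have hdiag : ∀ v, polar Q (K v) v = 0 := by
      intro v
      have := hskew v v
      rw [polar_comm (⇑Q) (K v) v] at this ⊢
      exact (mul_eq_zero.1 (by linear_combination this : (2 : F) * polar Q v (K v) = 0)).resolve_left h2
    obtain ⟨x0, hx0, hKx0⟩ := hKne
    set a := K x0
    have ha : a ∈ V0 := hKrange x0
    obtain ⟨f0, hf0, hfa⟩ : ∃ f0 ∈ V0, polar Q a f0 = 1 := by
      by_contra! hc
      refine hKx0 (hB0 a ha fun y hy => ?_)
      by_contra hne
      exact hc _ (V0.smul_mem (polar Q a y)⁻¹ hy) (by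
        rw [polar_smul_right, smul_eq_mul, inv_mul_cancel₀ hne])
    -- a vector orthogonal to both
    let π : V0 →ₗ[F] F × F := LinearMap.prod ((polarBilin Q a).comp V0.subtype)
      ((polarBilin Q f0).comp V0.subtype)
    obtain ⟨⟨z, hz⟩, hzk, hzne⟩ : ∃ z ∈ LinearMap.ker π, z ≠ 0 := by
      refine (LinearMap.ker π).exists_mem_ne_zero_of_ne_bot fun hbot => ?_
      have := LinearMap.finrank_le_finrank_of_injective (LinearMap.ker_eq_bot.1 hbot)
      rw [hV0dim, Module.finrank_prod, Module.finrank_self] at this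
      omega
    have hza : polar Q a z = 0 := congrArg Prod.fst (LinearMap.mem_ker.1 hzk)
    have hzf : polar Q f0 z = 0 := congrArg Prod.snd (LinearMap.mem_ker.1 hzk)
    have hzne' : z ≠ 0 := fun h => hzne (Subtype.ext h)
    have haa : polar Q a a = 0 := hiso x0 x0
    have hspan : ∀ y ∈ V0, ∃ c1 c2 c3 : F, c1 • a + c2 • f0 + c3 • z = y := by
      have hli : LinearIndependent F ![(⟨a, ha⟩ : V0), ⟨f0, hf0⟩, ⟨z, hz⟩] := by
        rw [Fintype.linearIndependent_iff]
        intro c hc
        simp only [Fin.sum_univ_three, Matrix.cons_val_zero, Matrix.cons_val_one, Matrix.cons_val,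
          Subtype.ext_iff, Submodule.coe_add, Submodule.coe_smul, Submodule.coe_zero] at hc
        have e1 := congrArg (polar Q a) hc
        simp [polar_add_right, haa, hza, hfa] at e1
        rw [e1, zero_smul, add_zero] at hc
        have e2 := congrArg (polar Q f0) hc
        simp [polar_add_right, hzf, polar_comm (⇑Q) f0 a, hfa] at e2
        rw [e2, zero_smul, zero_add, smul_eq_zero] at hc
        intro i
        fin_cases i
        · exact e2
        · exact e1
        · exact hc.resolve_right hzne'
      intro y hy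
      have htop := hli.span_eq_top_of_card_eq_finrank (by rw [Fintype.card_fin, hV0dim])
      obtain ⟨c, hc⟩ := (Submodule.mem_span_range_iff_exists_fun F).1
        (htop ▸ Submodule.mem_top (x := (⟨y, hy⟩ : V0)))
      exact ⟨c 0, c 1, c 2, by simpa [Fin.sum_univ_three] using congrArg Subtype.val hc⟩
    have hzz : polar Q z z ≠ 0 := fun h => hzne' (hB0 z hz fun y hy => by
      obtain ⟨c1, c2, c3, rfl⟩ := hspan y hy
      simp [polar_add_right, polar_comm (⇑Q) z a, polar_comm (⇑Q) z f0, hza, hzf, h])
    have hKa : K a = 0 := hKK x0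
    obtain ⟨α, β, γ, hf⟩ := hspan (K f0) (hKrange f0)
    obtain ⟨α', β', γ', hz'⟩ := hspan (K z) (hKrange z)
    have hβ : β = 0 := by
      have := hskew f0 a
      rw [hKa, ← hf] at this
      simpa [polar_add_left, polar_comm (⇑Q) f0 a, haa, hfa, polar_comm (⇑Q) z a, hza] using this
    have hγ' : γ' = 0 := by
      have := hdiag z
      rw [← hz'] at this
      simp only [polar_add_left, polar_smul_left, hza, hzf, smul_eq_mul, mul_zero, zero_add] at this
      exact (mul_eq_zero.1 this).resolve_right hzz
    have hβ' : β' = 0 := by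
      have := hskew z a
      rw [hKa, ← hz', hγ'] at this
      simpa [polar_add_left, polar_comm (⇑Q) f0 a, haa, hfa] using this
    have hα : α = 0 := by
      have := hdiag f0
      rw [← hf, hβ] at this
      simpa [polar_add_left, hfa, polar_comm (⇑Q) z f0, hzf] using this
    rw [hα, hβ, zero_smul, zero_smul, zero_add, zero_add] at hf
    rw [hβ', hγ', zero_smul, zero_smul, add_zero, add_zero] at hz'
    have hα' : α' = -(γ * polar Q z z) := by
      have := hskew z f0
      rw [← hz', ← hf] at this
      simpa [hfa] using this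
    have hγ : γ = 0 := by
      have := hKK f0
      rw [← hf, map_smul, ← hz', smul_smul, smul_eq_zero] at this
      have h0 := this.resolve_right hKx0
      rw [hα', mul_neg, neg_eq_zero, ← mul_assoc, mul_eq_zero, mul_self_eq_zero] at h0
      exact h0.resolve_right hzz
    rw [hγ, zero_smul] at hf
    rw [hγ, zero_mul, neg_zero] at hα'
    rw [hα', zero_smul] at hz'
    obtain ⟨c1, c2, c3, hx0'⟩ := hspan x0 hx0
    apply hKx0
    change K x0 = 0
    rw [← hx0', map_add, map_add, map_smul, map_smul, map_smul, hKa, ← hf, ← hz', smul_zero,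
      smul_zero, smul_zero, add_zero, add_zero]
  obtain ⟨x, hx, hKKx⟩ := hK2
  set d := K x with hd
  set e := K d with he
  have hdm : d ∈ V0 := hKrange x
  have hem : e ∈ V0 := hKrange d
  have hKe : K e = 0 := by
    -- four vectors in a space of dimension three
    by_contra hne
    have hex : ∃ k, (K ^ k) x = 0 := ⟨p, by rw [hKp]; rfl⟩
    set k := Nat.find hex
    have hk : (K ^ k) x = 0 := Nat.find_spec hex
    have hK3 : (K ^ 3) x ≠ 0 := by
      simpa [pow_succ', Module.End.mul_apply, he, hd] using hne
    have hk4 : 4 ≤ k := by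
      by_contra hlt
      apply hK3
      have : (K ^ (3 - k)) ((K ^ k) x) = 0 := by rw [hk, map_zero]
      rwa [← Module.End.mul_apply, ← pow_add, Nat.sub_add_cancel (by omega)] at this
    have hli : LinearIndependent F (fun i : Fin 4 => (⟨(K ^ (i : ℕ)) x, by
        rcases i with ⟨_ | i, hi⟩
        · simpa using hx
        · rw [pow_succ', Module.End.mul_apply]; exact hKrange _⟩ : V0)) := by
      rw [Fintype.linearIndependent_iff]
      intro c hc
      have hc' : ∑ i : Fin 4, c i • (K ^ (i : ℕ)) x = 0 := by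
        have := congrArg Subtype.val hc
        rw [Submodule.coe_sum] at this
        simpa using this
      intro i
      induction i using WellFoundedLT.induction with
      | _ i ih =>
        have h1 := congrArg (K ^ (k - 1 - (i : ℕ))) hc'
        rw [map_sum, map_zero, Finset.sum_eq_single i] at h1
        · rw [map_smul, ← Module.End.mul_apply, ← pow_add, Nat.sub_add_cancel (by omega),
            smul_eq_zero] at h1
          exact h1.resolve_right (Nat.find_min hex (by omega))
        · intro j _ hj
          rcases lt_or_gt_of_ne hj with hlt | hgt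
          · rw [ih j hlt, zero_smul, map_zero]
          · rw [map_smul, ← Module.End.mul_apply, ← pow_add,
              show k - 1 - (i : ℕ) + (j : ℕ) = (j : ℕ) - (i : ℕ) - 1 + k by
                have := Fin.lt_def.1 hgt; omega,
              pow_add, Module.End.mul_apply, hk, map_zero, smul_zero]
        · exact fun h => absurd (Finset.mem_univ _) h
    have := hli.fintype_card_le_finrank
    rw [Fintype.card_fin, hV0dim] at this
    omega
  have hde : polar Q d e = 0 := by
    have h := hpol x e
    rw [hKe] at h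
    simpa [← hd] using h
  have hee : polar Q e e = 0 := by
    have h := hpol d d
    rw [← he, polar_comm (⇑Q) e d, hde] at h
    simpa using h
  have hxe : polar Q x e = -polar Q d d := by
    have h := hpol x d
    rw [← hd, ← he, hde] at h
    linear_combination h
  have hli3 : LinearIndependent F ![(⟨e, hem⟩ : V0), ⟨d, hdm⟩, ⟨x, hx⟩] := by
    rw [Fintype.linearIndependent_iff]
    intro c hc
    simp only [Fin.sum_univ_three, Matrix.cons_val_zero, Matrix.cons_val_one, Matrix.cons_val,
      Subtype.ext_iff, Submodule.coe_add, Submodule.coe_smul, Submodule.coe_zero] at hc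
    have e1 := congrArg (fun y => K (K y)) hc
    simp [hKe, ← he, ← hd, hKKx, show e ≠ 0 from hKKx] at e1
    rw [e1, zero_smul, add_zero] at hc
    have e2 := congrArg K hc
    simp [hKe, ← he, show e ≠ 0 from hKKx] at e2
    rw [e2, zero_smul, add_zero, smul_eq_zero] at hc
    intro i
    fin_cases i
    · exact hc.resolve_right hKKx
    · exact e2
    · exact e1
  let bb := basisOfLinearIndependentOfCardEqFinrank hli3 (by rw [Fintype.card_fin, hV0dim])
  have hspan3 : ∀ y ∈ V0, ∃ α β γ : F, α • e + β • d + γ • x = y := by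
    intro y hy
    refine ⟨bb.repr ⟨y, hy⟩ 0, bb.repr ⟨y, hy⟩ 1, bb.repr ⟨y, hy⟩ 2, ?_⟩
    have := congrArg Subtype.val (bb.sum_repr (⟨y, hy⟩ : V0))
    simpa [bb, Fin.sum_univ_three, coe_basisOfLinearIndependentOfCardEqFinrank] using this
  have hdd : polar Q d d ≠ 0 := by
    intro h0
    refine hKKx (hB0 e hem fun y hy => ?_)
    obtain ⟨α, β, γ, rfl⟩ := hspan3 y hy
    simp [polar_add_right, hee, polar_comm (⇑Q) e d, hde, polar_comm (⇑Q) e x, hxe, h0]
  -- the semisimple part is a sign on `V0`
  have hKs : Commute K s := hcomm_us.sub_left (Commute.one_left s)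
  have hKsv : ∀ v, K (s v) = s (K v) := fun v => LinearMap.congr_fun hKs.eq v
  obtain ⟨c', b', a, hsx⟩ := hspan3 (s x) (hinv0 hcomm_s x hx)
  have hsd : s d = a • d + b' • e := by
    rw [hd, ← hKsv, ← hsx]
    simp [← hd, ← he, hKe, add_comm]
  have hse : s e = a • e := by
    rw [he, ← hKsv, hsd]
    simp [← he, hKe]
  have haN : a ^ N = 1 := by
    have h := pow_apply_eigen hse N
    rw [hsN, Module.End.one_apply] at h
    exact (smul_left_injective F (show e ≠ 0 from hKKx) (show a ^ N • e = (1 : F) • e by
      rw [one_smul, ← h])).symm ▸ rfl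
  have hNF : (N : F) ≠ 0 := by rw [Ne, CharP.cast_eq_zero_iff F p]; exact hpN
  have ha0 : a ≠ 0 := by rintro rfl; rw [zero_pow hNpos.ne'] at haN; exact zero_ne_one haN
  have hjor : ∀ {y : V} {c : F}, s y = a • y + c • e → c = 0 := by
    intro y c hy
    have h := pow_apply_jordan hse hy N
    rw [hsN, Module.End.one_apply, haN, one_smul, left_eq_add, smul_eq_zero] at h
    have h := h.resolve_right hKKx
    simpa [hNF, ha0] using h
  have hb' : b' = 0 := hjor hsd
  rw [hb', zero_smul, add_zero] at hsd
  have hc' : c' = 0 := hjor (y := x) (c := c') (by rw [← hsx, hb', zero_smul, add_zero, add_comm])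
  have hsx' : s x = a • x := by rw [← hsx, hb', hc', zero_smul, zero_smul, zero_add, zero_add]
  have hs0 : ∀ y ∈ V0, s y = a • y := by
    intro y hy
    obtain ⟨α, β, γ, rfl⟩ := hspan3 y hy
    simp only [map_add, map_smul, hse, hsd, hsx', smul_add, smul_smul, mul_comm a]
  have hs' : s = toEnd Q (g ^ p) := (map_pow _ g p).symm
  have ha2 : a = 1 ∨ a = -1 := by
    have h := polar_toEnd (g ^ p) d d
    rw [← hs', hsd, polar_smul_left, polar_smul_right, smul_eq_mul, smul_eq_mul] at h
    refine mul_self_eq_one_iff.1 (mul_right_cancel₀ hdd ?_)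
    linear_combination h
  have hsW : ∀ (i : ℕ) (w : V), w ∈ W → w ≠ 0 → (s ^ i) w = w → ∀ w' ∈ W, (s ^ i) w' = w' := by
    intro i w hw hne hfix w' hw'
    have h := hirr (T := s ^ i - 1) ((hcomm_s.pow_left i).sub_left (Commute.one_left t)) w hw hne
      (by simp [hfix]) w' hw'
    simpa [sub_eq_zero] using h
  have ha1 : a = 1 := by
    refine ha2.resolve_right fun ha => ?_
    have hfree : ∀ v, toEnd Q (g ^ p) v = v → v = 0 := by
      intro v hv
      rw [← hs'] at hv
      obtain ⟨y, hy, w, hw, rfl⟩ := hdec v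
      rw [map_add, hs0 y hy, ha, neg_one_smul] at hv
      have hy2 : y + y ∈ W := by
        have : y + y = s w - w := by linear_combination (norm := abel) -hv
        rw [this]
        exact W.sub_mem (hinvW hcomm_s w hw) hw
      have hy0 : y + y = 0 := hdisj _ hy2 (mem0.1 (V0.add_mem hy hy))
      rw [← two_smul F y, smul_eq_zero] at hy0
      have hy' := hy0.resolve_left h2
      rw [hy', neg_zero, zero_add, zero_add] at hv
      by_contra hne
      rw [hy', zero_add] at hne
      refine ht1 (LinearMap.ext fun v' => ?_)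
      obtain ⟨y', hy'', w', hw', rfl⟩ := hdec v'
      have hst : ∀ j : ℕ, (s ^ j) w' = w' := by
        intro j
        induction j with
        | zero => simp
        | succ j ih =>
          rw [pow_succ', Module.End.mul_apply, ih]
          simpa using hsW 1 w hw hne (by simpa using hv) w' hw'
      rw [map_add, mem0.1 hy'', Module.End.one_apply, ht, hst]
    have h1 := det_eq_neg_one hB (g ^ p) hfree (by rw [hdim]; exact odd_two_mul_add_one _)
    let δ : OQ Q →* F := (LinearMap.det : Module.End F V →* F).comp (toEnd Q)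
    have h2' := Abelianization.commutator_subset_ker δ.toHomUnits
      (Subgroup.pow_mem _ hg p)
    rw [MonoidHom.mem_ker, Units.ext_iff, Units.val_one, MonoidHom.coe_toHomUnits] at h2'
    rw [show δ (g ^ p) = LinearMap.det (toEnd Q (g ^ p)) from rfl, h1] at h2'
    exact h2 (by linear_combination -h2')
  -- count moved vectors of value one
  haveI : Fintype {v // Q v = 1} := Fintype.ofFinite _
  set σ := levelPerm Q 1 (g ^ p) with hσ
  have hσv : ∀ (i : ℕ) (v : {v // Q v = 1}), ((σ ^ i) v).1 = (s ^ i) v.1 := by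
    intro i v
    rw [hσ, hs', ← map_pow, ← map_pow]
    rfl
  have hfixV0 : ∀ v, s v = v ↔ v ∈ V0 := by
    intro v
    refine ⟨fun hv => mem0.2 ?_, fun hv => by rw [hs0 v hv, ha1, one_smul]⟩
    rw [ht]
    have : ∀ j : ℕ, (s ^ j) v = v := fun j => by
      induction j with
      | zero => simp
      | succ j ih => rw [pow_succ', Module.End.mul_apply, ih, hv]
    exact this _
  have hfreeσ : ∀ v, σ v ≠ v → ∀ i : ℕ, (σ ^ i) v = v ↔ N ∣ i := by
    intro v hv i
    refine ⟨fun h => hsone i (LinearMap.ext fun z => ?_), fun ⟨c, hc⟩ => Subtype.ext ?_⟩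
    · have h' : (s ^ i) v.1 = v.1 := by rw [← hσv, h]
      obtain ⟨y, hy, w, hw, hyw⟩ := hdec v.1
      have hwne : w ≠ 0 := by
        intro h0
        apply hv
        refine Subtype.ext ?_
        have := hσv 1 v
        rw [pow_one, pow_one] at this
        rw [this]
        exact (hfixV0 _).2 (by rw [← hyw, h0, add_zero]; exact hy)
      have hpy : ∀ y ∈ V0, (s ^ i) y = y := fun y hy => by
        rw [pow_apply_eigen (hs0 y hy), ha1, one_pow, one_smul]
      have hw' : (s ^ i) w = w := by
        rw [← hyw, map_add, hpy y hy] at h'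
        exact add_left_cancel h'
      obtain ⟨y', hy', w', hw'', rfl⟩ := hdec z
      rw [map_add, hpy y' hy', hsW i w hw hwne hw' w' hw'', Module.End.one_apply]
    · rw [hσv, hc, pow_mul, hsN, one_pow]; rfl
  have hX : ((Finset.univ.filter fun v : {v // Q v = 1} => σ v = v).card : ℤ) = (q : ℤ) ^ 2 - q ∨
      ((Finset.univ.filter fun v : {v // Q v = 1} => σ v = v).card : ℤ) = (q : ℤ) ^ 2 + q := by
    have hval : ∀ α β γ : F, Q (α • e + β • d + γ • x) =
        β ^ 2 * Q d + γ * (α * polar Q e x + β * polar Q d x + γ * Q x) := by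
      intro α β γ
      have hQe : Q e = 0 := by
        have := polar_self Q e
        rw [hee, nsmul_eq_mul] at this
        exact (mul_eq_zero.1 this.symm).resolve_left (by simpa using h2)
      rw [QuadraticMap.map_add (⇑Q), QuadraticMap.map_add (⇑Q), polar_add_left, QuadraticMap.map_smul,
        QuadraticMap.map_smul, QuadraticMap.map_smul, polar_smul_left, polar_smul_left, polar_smul_left,
        polar_smul_right, polar_smul_right, polar_smul_right, hQe, polar_comm (⇑Q) e d, hde]
      simp only [smul_eq_mul]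
      ring
    have hQd : Q d ≠ 0 := fun h => hdd (by rw [polar_self Q d, h, smul_zero])
    have hP : polar Q e x ≠ 0 := by rw [polar_comm, hxe]; exact neg_ne_zero.2 hdd
    have hcard : (Finset.univ.filter fun v : {v // Q v = 1} => σ v = v).card =
        (Finset.univ.filter fun t : F × F × F =>
          t.2.1 ^ 2 * Q d + t.2.2 * (t.1 * polar Q e x + t.2.1 * polar Q d x + t.2.2 * Q x) = 1).card := by
      symm
      refine Finset.card_bij
        (fun t ht => (⟨t.1 • e + t.2.1 • d + t.2.2 • x, by
          rw [hval]; exact (Finset.mem_filter.1 ht).2⟩ : {v // Q v = 1})) ?_ ?_ ?_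
      · intro t _
        refine Finset.mem_filter.2 ⟨Finset.mem_univ _, Subtype.ext ?_⟩
        have := hσv 1 ⟨t.1 • e + t.2.1 • d + t.2.2 • x, by
          rw [hval]; exact (Finset.mem_filter.1 ‹t ∈ _›).2⟩
        rw [pow_one, pow_one] at this
        rw [this]
        exact (hfixV0 _).2 (V0.add_mem (V0.add_mem (V0.smul_mem _ hem) (V0.smul_mem _ hdm))
          (V0.smul_mem _ hx))
      · intro t _ t' _ heq
        have h := Fintype.linearIndependent_iff.1 hli3
          ![t.1 - t'.1, t.2.1 - t'.2.1, t.2.2 - t'.2.2] (by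
            refine Subtype.ext ?_
            simp [Fin.sum_univ_three, sub_smul]
            have hh : t.1 • e + t.2.1 • d + t.2.2 • x - (t'.1 • e + t'.2.1 • d + t'.2.2 • x) = 0 :=
              sub_eq_zero.2 (congrArg Subtype.val heq)
            linear_combination (norm := abel) hh)
        exact Prod.ext (sub_eq_zero.1 (h 0)) (Prod.ext (sub_eq_zero.1 (h 1)) (sub_eq_zero.1 (h 2)))
      · intro v hv
        have hfix : s v.1 = v.1 := by
          have := hσv 1 v
          rw [pow_one, pow_one, (Finset.mem_filter.1 hv).2] at this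
          exact this.symm
        obtain ⟨α, β, γ, hv'⟩ := hspan3 v.1 ((hfixV0 _).1 hfix)
        refine ⟨(α, β, γ), Finset.mem_filter.2 ⟨Finset.mem_univ _, ?_⟩, Subtype.ext hv'⟩
        rw [← hval, hv', v.2]
    rw [hcard, ← hq, Nat.card_eq_fintype_card]
    exact count_ternary _ _ hQd hP h2
  have hdvd : (N : ℕ) ∣ σ.support.card := by
    rw [← Equiv.Perm.sum_cycleType]
    refine Multiset.dvd_sum fun k hk => ?_
    have h1 : σ ^ k.gcd 0 = σ ^ k := by rw [Nat.gcd_zero_right]
    rw [Equiv.Perm.cycleType_def, Multiset.mem_map] at hk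
    obtain ⟨c, hc, rfl⟩ := hk
    rw [Finset.mem_val, Equiv.Perm.mem_cycleFactorsFinset_iff] at hc
    obtain ⟨hcyc, hσc⟩ := hc
    obtain ⟨y, hy⟩ := hcyc.nonempty_support
    have hσy : σ y ≠ y := by rw [← hσc y hy]; exact Equiv.Perm.mem_support.1 hy
    refine (hfreeσ y hσy _).1 ?_
    have hpow : ∀ i : ℕ, (σ ^ i) y = (c ^ i) y := by
      intro i
      induction i with
      | zero => rfl
      | succ i ih =>
        rw [pow_succ', pow_succ', Equiv.Perm.mul_apply, Equiv.Perm.mul_apply, ih]
        exact (hσc _ (Equiv.Perm.pow_apply_mem_support.2 hy)).symm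
    simp only [Function.comp_apply]
    rw [hpow, ← hcyc.orderOf, pow_orderOf_eq_one]
    rfl
  obtain ⟨M, hM⟩ := hdvd
  have hmoved : (σ.support.card : ℤ) +
      (Finset.univ.filter fun v : {v // Q v = 1} => σ v = v).card = (q : ℤ) ^ (2 * (m + 3)) + (q : ℤ) ^ (m + 3) := by
    have h1 : σ.support = Finset.univ.filter fun v : {v // Q v = 1} => ¬ σ v = v := by
      ext v; simp
    rw [h1, add_comm, ← Nat.cast_add, Finset.card_filter_add_card_filter_not, Finset.card_univ,
      ← Nat.card_eq_fintype_card, hcount]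
    push_cast
    rfl
  set A : ℤ := (q : ℤ) ^ (m + 2) with hA
  have hNA : (N : ℤ) = A + 1 := by rw [hN, show m + 3 - 1 = m + 2 from rfl]; push_cast; rfl
  have e1 : (q : ℤ) ^ (m + 3) = q * A := by rw [hA]; ring
  rw [hM, Nat.cast_mul, hNA, two_mul, pow_add, e1] at hmoved
  have hqodd : Odd (q : ℤ) := by
    rw [hqf.1]; exact_mod_cast (hp.out.odd_of_ne_two (by omega)).pow
  rcases hX with h | h <;> rw [h] at hmoved
  · have hne : A + 1 ≠ 0 := by positivity
    have hMval : (M : ℤ) = (q : ℤ) ^ 2 * (A - 1) + q := by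
      apply mul_left_cancel₀ hne
      linear_combination hmoved
    have hModd : Odd M := by
      have : Odd (M : ℤ) := by
        rw [hMval]
        exact (((hqodd.pow).sub_odd odd_one).mul_left _).add_odd hqodd
      exact_mod_cast this
    have hsign := sign_semiregular σ hNeven hNpos hfreeσ M hM hModd
    have h1' := Abelianization.commutator_subset_ker (levelSign Q) (Subgroup.pow_mem _ hg p)
    rw [MonoidHom.mem_ker, levelSign_eq, ← hσ, hsign] at h1'
    exact absurd h1' (by decide)
  · -- impossible residue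
    have hdiv : (A + 1) ∣ 2 * (q : ℤ) :=
      ⟨(q : ℤ) ^ 2 * (A - 1) + q - M, by linear_combination hmoved⟩
    have h3 : (N : ℤ) ∣ ((2 * q : ℕ) : ℤ) := by rw [hNA]; push_cast; exact hdiv
    have h4 : N ∣ 2 * q := Int.natCast_dvd_natCast.1 h3
    have hcop : Nat.Coprime N q := by
      rw [hqf.1]
      exact (((hp.out.coprime_iff_not_dvd).2 hpN).symm).pow_right _
    have := Nat.le_of_dvd (by norm_num) (hcop.dvd_of_dvd_mul_right h4)
    omega

end Cfsg.Agent.SpecBC
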