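import Cfsg.Agent.SpecBC.Two

/-!
`PΩ_(2n+1)(q)` and `PSp_(2n)(q)` have the same prime graph.
-/

set_option autoImplicit false

namespace Cfsg.Agent.SpecBC

variable {F : Type*} [Field F] [Fintype F]

theorem prime_graph_two {p : ℕ} [hp : Fact p.Prime] [CharP F p] (hodd : Odd (Fintype.card F)) {n : ℕ}
    (hn : 3 ≤ n) {r : ℕ} (hr : r.Prime) (hr2 : r ≠ 2) :
    2 * r ∈ Set.range (orderOf : Cfsg.POmega F (Cfsg.quadFormOdd n F) → ℕ) ↔
      2 * r ∈ Set.range (orderOf : Cfsg.PSp n F → ℕ) := by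
  haveI : NeZero n := ⟨by omega⟩
  have h2 : (2 : F) ≠ 0 := Classical.two_ne_zero_of_odd (by rwa [Nat.card_eq_fintype_card])
  by_cases hrp : r = p
  · subst hrp
    have hcop : Nat.Coprime 4 r :=
      ((Nat.coprime_primes Nat.prime_two hr).2 (Ne.symm hr2)).pow_left 2
    obtain ⟨u, hu⟩ := Spectrum.exists_unipotent (F := F) (p := r) (m := 1) (j := 0) le_rfl (by simp)
    rw [zero_add, pow_one] at hu
    have hs := Spectrum.hasOrd_add (hasOrd_one_four (F := F) h2) ⟨u, hu⟩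
    have ho := hasOrdO_add (hasOrdO_two_four (F := F) h2) (hasOrdO_three_char (p := r) hodd)
    rw [hcop.lcm_eq_mul] at hs ho
    exact iff_of_true (pomega_two_of_hasOrdO hodd hn (hasOrdO_mono h2 (by omega) ho))
      (psp_two_of_hasOrd h2 (Spectrum.hasOrd_mono (by omega) hs))
  · obtain ⟨η, hη⟩ : ∃ η, (Odd (orderOf (Fintype.card F : ZMod r)) ∧
        η = orderOf (Fintype.card F : ZMod r)) ∨
        (Even (orderOf (Fintype.card F : ZMod r)) ∧ 2 * η = orderOf (Fintype.card F : ZMod r)) := by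
      rcases Nat.even_or_odd (orderOf (Fintype.card F : ZMod r)) with he | ho
      · exact ⟨_, Or.inr ⟨he, Nat.two_mul_div_two_of_even he⟩⟩
      · exact ⟨_, Or.inl ⟨ho, rfl⟩⟩
    rw [mem_pomega_two_iff p hodd hr hr2 hrp rfl hη hn, mem_psp_two_iff p hodd hr hr2 hrp rfl hη hn]

theorem prime_graph_eq (hodd : Odd (Fintype.card F)) {n : ℕ} (hn : 3 ≤ n) {r s : ℕ} (hr : r.Prime)
    (hs : s.Prime) (hrs : r ≠ s) :
    r * s ∈ Set.range (orderOf : Cfsg.POmega F (Cfsg.quadFormOdd n F) → ℕ) ↔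
      r * s ∈ Set.range (orderOf : Cfsg.PSp n F → ℕ) := by
  obtain ⟨p, hp⟩ := CharP.exists F
  haveI := Fact.mk (CharP.char_is_prime F p)
  haveI : NeZero n := ⟨by omega⟩
  by_cases hr2 : r = 2
  · subst hr2
    exact prime_graph_two (p := p) hodd hn hs (Ne.symm hrs)
  by_cases hs2 : s = 2
  · subst hs2
    rw [mul_comm r 2]
    exact prime_graph_two (p := p) hodd hn hr hrs
  have hN : Odd (r * s) := (hr.odd_of_ne_two hr2).mul (hs.odd_of_ne_two hs2)
  rw [mem_spectrum_pomega_odd hodd hn hN, mem_spectrum_psp_odd hN]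
  by_cases hrp : r = p
  · subst hrp
    rw [mul_comm r s]
    exact (hasOrd_iff_mixed hodd hs hs2 (Ne.symm hrs)).symm
  by_cases hsp : s = p
  · subst hsp
    exact (hasOrd_iff_mixed hodd hr hr2 hrs).symm
  refine (hasOrd_iff_semisimple hodd hN ?_).symm
  rw [Nat.cast_mul]
  exact mul_ne_zero (SpecGL.not_dvd_card p hr hrp).2 (SpecGL.not_dvd_card p hs hsp).2

end Cfsg.Agent.SpecBC
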