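import Cfsg.Agent.SpecBC.Compare
import Cfsg.Agent.SpecBC.Twist
import Cfsg.Agent.InvClasses25.Orth
import Cfsg.Agent.Forms.Discriminant
import Cfsg.Agent.SpecGL.Symplectic

/-!
Element orders of `PΩ_(2n+1)(q)` and `PSp_(2n)(q)` read off from orders of isometries.
-/

set_option autoImplicit false

namespace Cfsg.Agent.SpecBC

open Module QuadraticMap Cfsg.Agent.Classical

universe u

variable {F : Type u} [Field F] [Fintype F]

omit [Fintype F] in
theorem bNondeg_prod {V W : Type*} [AddCommGroup V] [Module F V] [AddCommGroup W] [Module F W]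
    {Q : QuadraticForm F V} {R : QuadraticForm F W} (hQ : BNondeg Q) (hR : BNondeg R) :
    BNondeg (Q.prod R) := by
  rintro ⟨x, y⟩ h
  refine Prod.ext (hQ x fun z => ?_) (hR y fun z => ?_)
  · simpa [polar] using h (z, 0)
  · simpa [polar] using h (0, z)

omit [Fintype F] in
theorem hasOrdO_add {a b L M : ℕ} (h1 : HasOrdO F a L) (h2 : HasOrdO F b M) :
    HasOrdO F (a + b) (Nat.lcm L M) := by
  obtain ⟨Q, hQ, g, hg⟩ := h1
  obtain ⟨R, hR, k, hk⟩ := h2
  let φ : OQ Q × OQ R →* OQ (Q.prod R) :=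
    { toFun := fun x => ⟨x.1.1.prodCongr x.2.1, fun v => by simp⟩
      map_one' := by ext v <;> rfl
      map_mul' := fun x y => by ext v <;> rfl }
  have hφ : Function.Injective φ := by
    intro x y e
    refine Prod.ext ?_ ?_
    · ext v : 2
      exact congrArg (fun f : OQ (Q.prod R) => (f.1 (v, 0)).1) e
    · ext v : 2
      exact congrArg (fun f : OQ (Q.prod R) => (f.1 (0, v)).2) e
  have h := hasOrdO_of_form (bNondeg_prod hQ hR) (φ (g, k))
  rw [Module.finrank_prod, Module.finrank_fin_fun, Module.finrank_fin_fun,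
    orderOf_injective φ hφ, Prod.orderOf] at h
  obtain ⟨P, hP, f, hf⟩ := h
  exact ⟨P, hP, f, (Nat.lcm_dvd (hg.trans (Nat.dvd_lcm_left _ _))
    (hk.trans (Nat.dvd_lcm_right _ _))).trans hf⟩

theorem hasOrdO_one (h2 : (2 : F) ≠ 0) (d : ℕ) : HasOrdO F d 1 := by
  induction d with
  | zero => exact ⟨0, fun x _ => Subsingleton.elim _ _, 1, one_dvd _⟩
  | succ d ih =>
    have h := hasOrdO_of_form (bNondeg_sq (F := F) h2) 1
    rw [Module.finrank_self, orderOf_one] at h
    simpa using hasOrdO_add ih h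

theorem hasOrdO_mono (h2 : (2 : F) ≠ 0) {a b L : ℕ} (hab : a ≤ b) (h : HasOrdO F a L) :
    HasOrdO F b L := by
  obtain ⟨c, rfl⟩ := Nat.exists_eq_add_of_le hab
  simpa using hasOrdO_add h (hasOrdO_one h2 c)

omit [Fintype F] in
theorem hasOrdO_dvd {a L M : ℕ} (hLM : L ∣ M) (h : HasOrdO F a M) : HasOrdO F a L := by
  obtain ⟨Q, hQ, g, hg⟩ := h
  exact ⟨Q, hQ, g, hLM.trans hg⟩

instance finite_OQ {V : Type*} [AddCommGroup V] [Module F V] [Finite V] (Q : QuadraticForm F V) :
    Finite (OQ Q) :=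
  Finite.of_injective (fun g => ⇑g.1) fun _ _ h => Subtype.ext (DFunLike.coe_injective h)

theorem hasOrdO_two_four (h2 : (2 : F) ≠ 0) : HasOrdO F 2 4 := by
  let Q : QuadraticForm F (F × F) :=
    (QuadraticMap.sq : QuadraticForm F F).prod (QuadraticMap.sq : QuadraticForm F F)
  let e : (F × F) ≃ₗ[F] (F × F) :=
    { toFun := fun v => (-v.2, v.1)
      invFun := fun v => (v.2, -v.1)
      map_add' := fun v w => by ext <;> simp [add_comm]
      map_smul' := fun c v => by ext <;> simp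
      left_inv := fun v => by ext <;> simp
      right_inv := fun v => by ext <;> simp }
  let g : OQ Q := ⟨e, fun v => by simp [Q, e, add_comm]⟩
  have hg : orderOf g = 2 ^ (1 + 1) := by
    refine orderOf_eq_prime_pow (fun h => ?_) ?_
    · have := congrArg (fun f : OQ Q => (f.1 (1, 0)).1) h
      simp [g, e, pow_two] at this
      exact h2 (by linear_combination -this)
    · ext v <;> simp [g, e, pow_succ]
  have h := hasOrdO_of_form (bNondeg_prod (bNondeg_sq h2) (bNondeg_sq h2)) g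
  rw [Module.finrank_prod, Module.finrank_self, hg] at h
  exact h

omit [Fintype F] in
theorem hasOrd_one_four (h2 : (2 : F) ≠ 0) : Spectrum.HasOrd F 1 4 := by
  have hJ : Matrix.J (Fin 1) F ∈ Matrix.symplecticGroup (Fin 1) F := SymplecticGroup.J_mem _ _
  refine ⟨⟨_, hJ⟩, ?_⟩
  have h : orderOf (⟨_, hJ⟩ : Matrix.symplecticGroup (Fin 1) F) = 2 ^ (1 + 1) := by
    refine orderOf_eq_prime_pow (fun h => ?_) (Subtype.ext ?_)
    · have h' := congrArg Subtype.val h
      rw [pow_one, pow_two, Submonoid.coe_mul] at h'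
      change Matrix.J (Fin 1) F * Matrix.J (Fin 1) F = 1 at h'
      rw [Matrix.J_squared] at h'
      have := congrFun (congrFun h' (Sum.inl 0)) (Sum.inl 0)
      simp at this
      exact h2 (by linear_combination -this)
    · show (Matrix.J (Fin 1) F) ^ 4 = 1
      rw [show (4 : ℕ) = 2 * 2 from rfl, pow_mul, pow_two, pow_two, Matrix.J_squared]
      simp
  rw [h]
  norm_num

/-- An element of order `p` in a three dimensional orthogonal group. -/
theorem hasOrdO_three_char {p : ℕ} [hp : Fact p.Prime] [CharP F p]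
    (hodd : Odd (Fintype.card F)) : HasOrdO F 3 p := by
  have h2 : (2 : F) ≠ 0 := two_ne_zero_of_odd (by rwa [Nat.card_eq_fintype_card])
  have hdvd : p ∣ Nat.card (OQ (hypExt 1 (QuadraticMap.sq : QuadraticForm F F))) := by
    rw [card_OQ_odd (by rwa [Nat.card_eq_fintype_card]), Nat.card_eq_fintype_card]
    refine Dvd.dvd.mul_right (Dvd.dvd.mul_left ?_ _) _
    obtain ⟨f, -, hf⟩ := FiniteField.card F p
    rw [one_pow, pow_one, hf]
    exact dvd_pow_self p f.ne_zero
  obtain ⟨g, hg⟩ := exists_prime_orderOf_dvd_card' p hdvd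
  have h := hasOrdO_of_form (bNondeg_hypExt 1 (bNondeg_sq (F := F) h2)) g
  simp [HypSpace, Module.finrank_prod, hg] at h
  exact h

/-- In odd dimension all non-singular spaces are similar, so have one isometry group. -/
theorem exists_OQ_oddQF (h2 : (2 : F) ≠ 0) {n L : ℕ} (h : HasOrdO F (2 * n + 1) L) :
    ∃ g : OQ (oddQF n F), L ∣ orderOf g := by
  classical
  obtain ⟨Q, hQ, g, hg⟩ := h
  set b := Pi.basisFun F (Fin (2 * n + 1))
  set b' := (Pi.basisFun F (Unit ⊕ (Fin n ⊕ Fin n))).reindex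
    (Fintype.equivFinOfCardEq (by simp; omega) : Unit ⊕ (Fin n ⊕ Fin n) ≃ Fin (2 * n + 1))
  have hdet : ∀ {V : Type u} [AddCommGroup V] [Module F V] (R : QuadraticForm F V)
      (c : Basis (Fin (2 * n + 1)) F V), BNondeg R → (Forms.polarGram R c).det ≠ 0 := by
    intro V _ _ R c hR
    have e : Forms.polarGram R c = LinearMap.BilinForm.toMatrix c (polarBilin R) := by
      ext i j; rw [LinearMap.BilinForm.toMatrix_apply]; rfl
    rw [e]
    exact (LinearMap.BilinForm.nondegenerate_iff_det_ne_zero c).1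
      ⟨fun x hx => hR x hx, fun x hx => hR x fun y => by rw [polar_comm]; exact hx y⟩
  have hB : BNondeg (oddQF n F) :=
    bNondeg_congr (oddEquiv n) (fun x => oddEquiv_spec n x) (bNondeg_hypExt n (bNondeg_sq h2))
  set dQ := (Forms.polarGram Q b).det
  set dR := (Forms.polarGram (oddQF n F) b').det
  set c := dQ * dR
  have hc : c ≠ 0 := mul_ne_zero (hdet Q b hQ) (hdet _ b' hB)
  have hscale : Forms.polarGram (c • Q : QuadraticForm F (Fin (2 * n + 1) → F)) b =
      c • Forms.polarGram Q b := by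
    ext i j; simp [Forms.polarGram, polar, mul_sub]
  have hcQ : BNondeg (c • Q) := fun x hx => hQ x fun y => by
    have := hx y
    simp only [polar, QuadraticMap.smul_apply, smul_eq_mul, ← mul_sub] at this
    exact (mul_eq_zero.1 this).resolve_left hc
  have hns : ∀ {V : Type u} [AddCommGroup V] [Module F V] {R : QuadraticForm F V}, BNondeg R →
      Forms.NonsingOn R ⊤ := fun hR r _ hr _ => hR r fun z => hr z trivial
  obtain ⟨e, he⟩ := Forms.exists_equiv_of_isSquare_det_mul h2 (c • Q) (oddQF n F) (hns hcQ) (hns hB)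
    b b' (by
      rw [hscale, Matrix.det_smul, Fintype.card_fin]
      exact ⟨c ^ (n + 1), by
        show c ^ (2 * n + 1) * dQ * dR = _
        rw [mul_assoc, show dQ * dR = c from rfl]
        ring⟩)
  have hmem : g.1 ∈ OQ (c • Q) := fun v => by
    show c • Q (g.1 v) = c • Q v
    rw [OQ_map_app]
  refine ⟨OQCongr e he ⟨g.1, hmem⟩, ?_⟩
  rw [MulEquiv.orderOf_eq, ← Subgroup.orderOf_coe]
  rwa [← Subgroup.orderOf_coe] at hg

omit [Fintype F] in
theorem bNondeg_oddQF (h2 : (2 : F) ≠ 0) (n : ℕ) : BNondeg (oddQF n F) :=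
  bNondeg_congr (oddEquiv n) (fun x => oddEquiv_spec n x) (bNondeg_hypExt n (fun x hx => by
    have h := hx 1
    simp only [polar, QuadraticMap.sq_apply] at h
    ring_nf at h
    exact (mul_eq_zero.1 h).resolve_right h2))

omit [Fintype F] in
theorem finrank_oddQF (n : ℕ) :
    finrank F (Unit ⊕ (Fin n ⊕ Fin n) → F) = 2 * n + 1 := by
  simp [Module.finrank_pi]; omega

/-- `PΩ_(2n+1)` is the commutator subgroup of the isometry group. -/
theorem mem_spectrum_pomega_iff (hodd : Odd (Fintype.card F)) {n : ℕ} (hn : 3 ≤ n) {N : ℕ} :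
    N ∈ Set.range (orderOf : Cfsg.POmega F (Cfsg.quadFormOdd n F) → ℕ) ↔
      ∃ g : OQ (oddQF n F), g ∈ commutator (OQ (oddQF n F)) ∧ orderOf g = N := by
  classical
  have h2 : (2 : F) ≠ 0 := two_ne_zero_of_odd (by rwa [Nat.card_eq_fintype_card])
  have hfun : Cfsg.quadFormOdd n F = ⇑(oddQF n F) := funext fun v => (oddQF_apply n v).symm
  rw [hfun]
  let Q := oddQF n F
  let e : Cfsg.Omega F ⇑Q ≃* ↥(commutator (OQ Q)) :=
    ((OrthGen.matEquiv Q).subgroupMap _).trans (MulEquiv.subgroupCongr (OrthGen.map_Omega Q))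
  obtain ⟨α, hα⟩ := FiniteField.exists_nonsquare (F := F) (by
    rw [Ne, ringChar.eq_iff]
    intro hch
    exact h2 (CharP.cast_eq_zero F 2))
  have hB := bNondeg_oddQF (F := F) h2 n
  obtain ⟨b, hb, hb1, hb2⟩ := Forms.exists_orthogonal_basis_symm h2 (B := polarBilin Q)
    ⟨fun x y => polar_comm _ x y⟩
    ⟨fun x hx => hB x hx, fun x hx => hB x fun y => by rw [polar_comm]; exact hx y⟩
    (finrank_oddQF (F := F) n) hα
  have hval : ∀ i, polarBilin Q (b i) (b i) = 2 * Q (b i) := fun i =>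
    InvClasses25.polar_self_two Q (b i)
  have hcen : Subgroup.center ↥(commutator (OQ Q)) = ⊥ := by
    refine InvClasses25.center_commutator_eq_bot h2 (m := n) (by omega) b (c := 2⁻¹)
      (inv_ne_zero h2) (fun i j hij => hb i j hij) (fun i hi => ?_) ?_
    · have := hb1 i hi
      rw [hval] at this
      exact eq_inv_of_mul_eq_one_right this
    · intro h0
      have hα0 : α ≠ 0 := fun h => hα (h ▸ IsSquare.zero)
      rcases hb2 with h | h <;> rw [hval, h0, mul_zero] at h
      · exact zero_ne_one h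
      · exact hα0 h.symm
  have hbot : Subgroup.center (Cfsg.Omega F ⇑Q) = ⊥ := by
    rw [eq_bot_iff]
    intro z hz
    have hmem : e z ∈ Subgroup.center ↥(commutator (OQ Q)) := by
      rw [Subgroup.mem_center_iff] at hz ⊢
      intro y
      obtain ⟨y, rfl⟩ := e.surjective y
      rw [← map_mul, ← map_mul, hz y]
    rw [hcen, Subgroup.mem_bot] at hmem
    exact Subgroup.mem_bot.2 (e.injective (hmem.trans (map_one e).symm))
  let π := QuotientGroup.mk' (Subgroup.center (Cfsg.Omega F ⇑Q))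
  have hπ : Function.Injective π := by
    rw [← MonoidHom.ker_eq_bot_iff, QuotientGroup.ker_mk']
    exact hbot
  constructor
  · rintro ⟨x, rfl⟩
    obtain ⟨x, rfl⟩ := QuotientGroup.mk'_surjective _ x
    exact ⟨_, (e x).2, by rw [Subgroup.orderOf_coe, MulEquiv.orderOf_eq, orderOf_injective π hπ]⟩
  · rintro ⟨g, hg, rfl⟩
    refine ⟨π (e.symm ⟨g, hg⟩), ?_⟩
    rw [orderOf_injective π hπ, MulEquiv.orderOf_eq, ← Subgroup.orderOf_coe]

/-- Odd orders in `PΩ_(2n+1)`. -/
theorem mem_spectrum_pomega_odd (hodd : Odd (Fintype.card F)) {n : ℕ} (hn : 3 ≤ n) {N : ℕ}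
    (hN : Odd N) :
    N ∈ Set.range (orderOf : Cfsg.POmega F (Cfsg.quadFormOdd n F) → ℕ) ↔
      HasOrdO F (2 * n + 1) N := by
  have h2 : (2 : F) ≠ 0 := two_ne_zero_of_odd (by rwa [Nat.card_eq_fintype_card])
  rw [mem_spectrum_pomega_iff hodd hn]
  constructor
  · rintro ⟨g, -, rfl⟩
    have := hasOrdO_of_form (bNondeg_oddQF h2 n) g
    rwa [finrank_oddQF] at this
  · intro h
    obtain ⟨g, hg⟩ := exists_OQ_oddQF h2 h
    set a := g ^ (orderOf g / N)
    have ha : orderOf a = N := orderOf_pow_orderOf_div (orderOf_pos g).ne' hg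
    refine ⟨a, ?_, ha⟩
    obtain ⟨c, hc⟩ := hN
    have e : a = a ^ (c + 1) * a ^ (c + 1) := by
      rw [← pow_add, show c + 1 + (c + 1) = N + 1 by omega, pow_succ, ← ha, pow_orderOf_eq_one,
        one_mul]
    rw [e]
    exact Forms.mul_self_mem_commutator (bNondeg_oddQF h2 n)
      (OrthGen.notExceptional_of_two_ne_zero h2) _

/-- Odd orders in `PSp_(2n)`. -/
theorem mem_spectrum_psp_odd {n : ℕ} [NeZero n] {N : ℕ} (hN : Odd N) :
    N ∈ Set.range (orderOf : Cfsg.PSp n F → ℕ) ↔ Spectrum.HasOrd F n N := by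
  rw [Set.mem_range, SpecGL.exists_psp_iff
    ((Nat.coprime_two_right.2 hN).coprime_dvd_right (Nat.gcd_dvd_left _ _))]
  exact ⟨fun ⟨g, hg⟩ => ⟨g, hg ▸ dvd_rfl⟩,
    fun ⟨g, hg⟩ => ⟨g ^ (orderOf g / N), orderOf_pow_orderOf_div (orderOf_pos g).ne' hg⟩⟩

end Cfsg.Agent.SpecBC
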