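import Cfsg.Agent.SpecBC.Bridge

/-!
Odd element orders pass between `Sp_(2n)(q)` and `O_(2n+1)(q)`.
-/

set_option autoImplicit false

namespace Cfsg.Agent.SpecBC

open Module QuadraticMap Cfsg.Agent.Classical

universe u v

variable {F : Type u} [Field F]

section Parts

variable {V : Type v} [AddCommGroup V] [Module F V] [FiniteDimensional F V]

/-- What an isometry `g` and a commuting `h` of odd order prime to the characteristic give. -/
theorem exists_parts (h2 : (2 : F) ≠ 0) {B : LinearMap.BilinForm F V}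
    (hB : ∀ x, (∀ y, B x y = 0) → x = 0) {g h : Module.End F V}
    (hg : ∀ x y, B (g x) (g y) = B x y) (hh : ∀ x y, B (h x) (h y) = B x y) (hc : Commute g h)
    {m : ℕ} (hm : h ^ m = 1) (hodd : Odd m) (hm0 : (m : F) ≠ 0) :
    ∃ (W K : Submodule F V) (gW hW : Module.End F W) (gK : Module.End F K),
      IsCompl W K ∧ W = LinearMap.range (h - 1) ∧ K = LinearMap.ker (h - 1) ∧
      (∀ x : W, (gW x : V) = g x) ∧ (∀ x : W, (hW x : V) = h x) ∧ (∀ x : K, (gK x : V) = g x) ∧
      (∀ x : W, hW (hW x) = x → x = 0) ∧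
      (∀ x : W, (∀ y : W, B.restrict W x y = 0) → x = 0) ∧
      (∀ x y, B.restrict W (gW x) (gW y) = B.restrict W x y) ∧
      (∀ x y, B.restrict W (hW x) (hW y) = B.restrict W x y) ∧ Commute gW hW ∧
      ∀ i : ℕ, g ^ i = 1 ↔ gW ^ i = 1 ∧ gK ^ i = 1 := by
  obtain ⟨hcompl, hfree, hnd⟩ := range_sub_one_facts hB hh hm hm0
  have hgW : ∀ x ∈ LinearMap.range (h - 1), g x ∈ LinearMap.range (h - 1) :=
    fun x hx => mem_range_of_commute hc hx
  have hhW : ∀ x ∈ LinearMap.range (h - 1), h x ∈ LinearMap.range (h - 1) :=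
    fun x hx => mem_range_of_commute (Commute.refl h) hx
  have hgK : ∀ x ∈ LinearMap.ker (h - 1), g x ∈ LinearMap.ker (h - 1) :=
    fun x hx => mem_ker_of_commute hc hx
  refine ⟨_, _, g.restrict hgW, h.restrict hhW, g.restrict hgK, hcompl, rfl, rfl, fun x => rfl,
    fun x => rfl, fun x => rfl, fun x hx => ?_, fun x hx => ?_, fun x y => hg x y,
    fun x y => hh x y, ?_, fun i => ?_⟩
  · exact Subtype.ext (no_sq_fixed h2 hm hodd (hfree x.1 x.2) (congrArg Subtype.val hx))
  · exact Subtype.ext (hnd x.1 x.2 fun y hy => hx ⟨y, hy⟩)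
  · refine LinearMap.ext fun x => Subtype.ext ?_
    show g (h x.1) = h (g x.1)
    rw [← Module.End.mul_apply, hc.eq, Module.End.mul_apply]
  · rw [Module.End.pow_restrict i, Module.End.pow_restrict i]
    constructor
    · intro hi
      exact ⟨LinearMap.ext fun x => Subtype.ext (by simp [hi]),
        LinearMap.ext fun x => Subtype.ext (by simp [hi])⟩
    · rintro ⟨ha, hb⟩
      refine eq_of_isCompl hcompl (fun x hx => ?_) fun x hx => ?_
      · exact congrArg Subtype.val (LinearMap.congr_fun ha ⟨x, hx⟩)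
      · exact congrArg Subtype.val (LinearMap.congr_fun hb ⟨x, hx⟩)

/-- An isometry of an alternating form seen in a symplectic group. -/
theorem exists_symp_of_alt {A : LinearMap.BilinForm F V} (hA : ∀ x, (∀ y, A x y = 0) → x = 0)
    (ha : A.IsAlt) {g : Module.End F V} (hg : ∀ x y, A (g x) (g y) = A x y) :
    ∃ (w : ℕ) (φ : Module.End F V ≃ₐ[F] Matrix (Fin w ⊕ Fin w) (Fin w ⊕ Fin w) F)
      (g' : Matrix.symplecticGroup (Fin w) F), finrank F V = 2 * w ∧
      (g' : Matrix (Fin w ⊕ Fin w) (Fin w ⊕ Fin w) F) = φ g := by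
  have hnd : A.Nondegenerate := ⟨hA, fun x hx => hA x fun y => by
    rw [← LinearMap.IsAlt.neg ha y x, hx, neg_zero]⟩
  obtain ⟨w, b, -, -, -⟩ := Forms.exists_symplectic_basis ha hnd
  have hd : finrank F V = 2 * w := by
    rw [Module.finrank_eq_card_basis b]; simp; omega
  obtain ⟨e, he⟩ := Forms.exists_equiv_sympForm ha hnd hd
  let φ := e.conjAlgEquiv F |>.trans LinearMap.toMatrixAlgEquiv'
  have happ : ∀ (f : Module.End F V) (z : Fin w ⊕ Fin w → F),
      (φ f).mulVec z = e (f (e.symm z)) := fun f z => by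
    simp [φ, LinearMap.toMatrixAlgEquiv', LinearMap.toMatrix'_mulVec]
  refine ⟨w, φ, ⟨φ g, ?_⟩, hd, rfl⟩
  rw [Forms.mem_symplecticGroup_iff_sympForm]
  intro u v
  rw [happ, happ, he, hg, ← he, LinearEquiv.apply_symm_apply, LinearEquiv.apply_symm_apply]

omit [FiniteDimensional F V] in
theorem orderOf_of_coe {w : ℕ} {φ : Module.End F V ≃ₐ[F] Matrix (Fin w ⊕ Fin w) (Fin w ⊕ Fin w) F}
    {g : Module.End F V} {g' : Matrix.symplecticGroup (Fin w) F}
    (h : (g' : Matrix (Fin w ⊕ Fin w) (Fin w ⊕ Fin w) F) = φ g) : orderOf g' = orderOf g := by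
  rw [← orderOf_injective (Matrix.symplecticGroup (Fin w) F).subtype Subtype.val_injective g',
    Submonoid.coe_subtype, h]
  exact orderOf_injective φ.toMonoidHom φ.injective g

theorem endo_one_dim {W : Type*} [AddCommGroup W] [Module F W] [FiniteDimensional F W]
    (hW : finrank F W ≤ 1) {p : ℕ} [Fact p.Prime] [CharP F p] {f : Module.End F W}
    (hf : f ^ p = 1) : f = 1 := by
  rcases Nat.le_one_iff_eq_zero_or_eq_one.1 hW with h0 | h1
  · haveI := (Module.finrank_zero_iff (R := F)).1 h0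
    exact LinearMap.ext fun x => Subsingleton.elim _ _
  · obtain ⟨v, hv, hs⟩ := finrank_eq_one_iff'.1 h1
    obtain ⟨c, hc⟩ := hs (f v)
    have hpow : ∀ i : ℕ, (f ^ i) v = c ^ i • v := fun i => by
      induction i with
      | zero => simp
      | succ i ih => rw [pow_succ', Module.End.mul_apply, ih, map_smul, ← hc, smul_smul, pow_succ]
    have e := hpow p
    rw [hf, Module.End.one_apply] at e
    have hcp : (c - 1) ^ p = 0 := by
      rw [sub_pow_char, one_pow, sub_eq_zero]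
      by_contra hne
      refine hv ?_
      have : (c ^ p - 1) • v = 0 := by rw [sub_smul, one_smul, ← e, sub_self]
      exact (smul_eq_zero.1 this).resolve_left (sub_ne_zero.2 hne)
    have hc1 : c = 1 := sub_eq_zero.1 (pow_eq_zero_iff (Fact.out : p.Prime).ne_zero |>.1 hcp)
    refine LinearMap.ext fun x => ?_
    obtain ⟨a, rfl⟩ := hs x
    rw [map_smul, ← hc, hc1, one_smul, Module.End.one_apply]

end Parts

section Move

variable [Fintype F]

/-- `exists_parts` for an element of an orthogonal group. -/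
theorem exists_parts_orth (h2 : (2 : F) ≠ 0) {V : Type v} [AddCommGroup V] [Module F V]
    [FiniteDimensional F V] {Q : QuadraticForm F V} (hQ : BNondeg Q) (g : OQ Q) (e : ℕ) {m : ℕ}
    (hm : g ^ (e * m) = 1) (hodd : Odd m) (hm0 : (m : F) ≠ 0) :
    ∃ (W K : Submodule F V) (w : ℕ) (gW : Module.End F W) (gK : Module.End F K)
      (φ : Module.End F W ≃ₐ[F] Matrix (Fin w ⊕ Fin w) (Fin w ⊕ Fin w) F)
      (g' : Matrix.symplecticGroup (Fin w) F),
      IsCompl W K ∧ W = LinearMap.range (toEnd Q g ^ e - 1) ∧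
      K = LinearMap.ker (toEnd Q g ^ e - 1) ∧
      (∀ x : W, (gW x : V) = g.1 x) ∧ (∀ x : K, (gK x : V) = g.1 x) ∧
      finrank F W = 2 * w ∧ (g' : Matrix (Fin w ⊕ Fin w) (Fin w ⊕ Fin w) F) = φ gW ∧
      (∀ i : ℕ, g ^ i = 1 ↔ gW ^ i = 1 ∧ gK ^ i = 1) := by
  have hinv : ∀ x y, polarBilin Q (toEnd Q g x) (toEnd Q g y) = polarBilin Q x y :=
    fun x y => polar_toEnd g x y
  have hinv' : ∀ x y, polarBilin Q ((toEnd Q g ^ e) x) ((toEnd Q g ^ e) y) = polarBilin Q x y :=
    fun x y => by rw [← map_pow]; exact polar_toEnd (g ^ e) x y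
  obtain ⟨W, K, gW, hW, gK, hcompl, hWeq, hKeq, hgW, -, hgK, hfree, hnd, hgi, hhi, hc, hpow⟩ :=
    exists_parts h2 (B := polarBilin Q) (fun x hx => hQ x hx) hinv hinv'
      (Commute.self_pow _ _) (m := m) (by rw [← pow_mul, ← map_pow, hm, map_one]) hodd hm0
  obtain ⟨w, φ, g', hw, hg'⟩ := exists_symp_of_symm hnd
    (fun x y => by exact polar_comm Q x.1 y.1) hgi hhi hc hfree
  refine ⟨W, K, w, gW, gK, φ, g', hcompl, hWeq, hKeq, hgW, hgK, hw, hg', fun i => ?_⟩
  rw [← hpow, ← map_pow]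
  exact (map_eq_one_iff _ toEnd_injective).symm

/-- `exists_parts` for an element of a symplectic group. -/
theorem exists_parts_symp (h2 : (2 : F) ≠ 0) {n : ℕ} (g : Matrix.symplecticGroup (Fin n) F) (e : ℕ)
    {m : ℕ} (hm : g ^ (e * m) = 1) (hodd : Odd m) (hm0 : (m : F) ≠ 0) :
    ∃ (d w dK : ℕ) (oW oK : ℕ), d = 2 * w ∧ d + dK = 2 * n ∧ Spectrum.HasOrd F w oW ∧
      HasOrdO F d oW ∧ (oK = 1 ∨ 0 < dK) ∧ orderOf g = Nat.lcm oW oK ∧ oK ∣ e := by
  classical
  let T := Matrix.toLinAlgEquiv' (R := F) (n := Fin n ⊕ Fin n)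
  set G : Module.End F (Fin n ⊕ Fin n → F) := T g.1 with hG
  have hinv : ∀ (a : Matrix.symplecticGroup (Fin n) F) x y,
      Forms.sympBil n F (T a.1 x) (T a.1 y) = Forms.sympBil n F x y := fun a x y => by
    rw [Forms.sympBil_apply, Forms.sympBil_apply]
    simpa [T] using Forms.mem_symplecticGroup_iff_sympForm.1 a.2 x y
  have hGp : ∀ i : ℕ, G ^ i = T (g ^ i : Matrix.symplecticGroup (Fin n) F).1 := fun i => by
    rw [hG, ← map_pow, SubmonoidClass.coe_pow]
  have hinv' : ∀ x y, Forms.sympBil n F ((G ^ e) x) ((G ^ e) y) = Forms.sympBil n F x y := fun x y => by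
    rw [hGp]; exact hinv _ x y
  have hnd0 : ∀ x, (∀ y, Forms.sympBil n F x y = 0) → x = 0 := fun x hx =>
    Forms.sympBil_nondegenerate.1 x hx
  obtain ⟨W, K, gW, hW, gK, hcompl, hWeq, hKeq, hgW, hhW, hgK, hfree, hnd, hgi, hhi, hc, hpow⟩ :=
    exists_parts h2 hnd0 (hinv g) hinv' (Commute.self_pow _ _) (m := m)
      (by rw [← pow_mul, hGp, hm, OneMemClass.coe_one, map_one]) hodd hm0
  have halt : (LinearMap.BilinForm.restrict (Forms.sympBil n F) W).IsAlt := fun x => by
    show Forms.sympBil n F x.1 x.1 = 0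
    rw [Forms.sympBil_apply, Forms.sympForm_self]
  obtain ⟨w, φ, g', hw, hg'⟩ := exists_symp_of_alt hnd halt hgi
  have hO := hasOrdO_of_alt h2 hnd halt hgi hhi hc hfree
  have hdim : finrank F W + finrank F K = 2 * n := by
    rw [Submodule.finrank_add_eq_of_isCompl hcompl, Module.finrank_pi, Fintype.card_sum,
      Fintype.card_fin, two_mul]
  refine ⟨finrank F W, w, finrank F K, orderOf gW, orderOf gK, hw, hdim,
    ⟨g', (orderOf_of_coe hg').symm.dvd⟩, hO, ?_, ?_, ?_⟩
  · rcases Nat.eq_zero_or_pos (finrank F K) with h0 | h0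
    · refine Or.inl ?_
      haveI := (Module.finrank_zero_iff (R := F)).1 h0
      rw [orderOf_eq_one_iff]
      exact LinearMap.ext fun x => Subsingleton.elim _ _
    · exact Or.inr h0
  · refine Nat.dvd_antisymm (orderOf_dvd_of_pow_eq_one ?_) ?_
    · apply Subtype.ext
      apply T.injective
      rw [← hGp, OneMemClass.coe_one, map_one]
      exact (hpow _).2 ⟨orderOf_dvd_iff_pow_eq_one.1 (Nat.dvd_lcm_left _ _),
        orderOf_dvd_iff_pow_eq_one.1 (Nat.dvd_lcm_right _ _)⟩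
    · have := (hpow (orderOf g)).1 (by rw [hGp, pow_orderOf_eq_one, OneMemClass.coe_one, map_one])
      exact Nat.lcm_dvd (orderOf_dvd_of_pow_eq_one this.1) (orderOf_dvd_of_pow_eq_one this.2)
  · refine orderOf_dvd_of_pow_eq_one (LinearMap.ext fun x => Subtype.ext ?_)
    have hx : x.1 ∈ LinearMap.ker (T g.1 ^ e - 1) := hKeq ▸ x.2
    rw [LinearMap.mem_ker, LinearMap.sub_apply, sub_eq_zero] at hx
    have key : ∀ i : ℕ, ((gK ^ i) x : Fin n ⊕ Fin n → F) = (T g.1 ^ i) x.1 := fun i => by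
      induction i with
      | zero => rfl
      | succ i ih => rw [pow_succ', pow_succ', Module.End.mul_apply, Module.End.mul_apply, hgK, ih]
    rw [key]
    exact hx

/-- Odd orders prime to the characteristic are the same. -/
theorem hasOrd_iff_semisimple (hodd : Odd (Fintype.card F)) {n N : ℕ} (hN : Odd N)
    (hN0 : (N : F) ≠ 0) : Spectrum.HasOrd F n N ↔ HasOrdO F (2 * n + 1) N := by
  have h2 : (2 : F) ≠ 0 := two_ne_zero_of_odd (by rwa [Nat.card_eq_fintype_card])
  constructor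
  · rintro ⟨g₀, hg₀⟩
    set g := g₀ ^ (orderOf g₀ / N)
    have hg : orderOf g = N := orderOf_pow_orderOf_div (orderOf_pos g₀).ne' hg₀
    obtain ⟨d, w, dK, oW, oK, -, hd, -, hO, -, hlcm, hK⟩ :=
      exists_parts_symp h2 g 1 (m := N) (by rw [one_mul, ← hg, pow_orderOf_eq_one]) hN hN0
    rw [Nat.dvd_one.1 hK, Nat.lcm_one_right, hg] at hlcm
    exact hasOrdO_mono h2 (by omega) (hlcm ▸ hO)
  · rintro ⟨Q, hQ, g₀, hg₀⟩
    set g := g₀ ^ (orderOf g₀ / N)
    have hg : orderOf g = N := orderOf_pow_orderOf_div (orderOf_pos g₀).ne' hg₀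
    obtain ⟨W, K, w, gW, gK, φ, g', hcompl, -, hKeq, -, hgK, hw, hg', hpow⟩ :=
      exists_parts_orth h2 hQ g 1 (m := N) (by rw [one_mul, ← hg, pow_orderOf_eq_one]) hN hN0
    have hK1 : gK = 1 := LinearMap.ext fun x => Subtype.ext (by
      have hx : x.1 ∈ LinearMap.ker (toEnd Q g ^ 1 - 1) := hKeq ▸ x.2
      rw [LinearMap.mem_ker, LinearMap.sub_apply, sub_eq_zero, pow_one] at hx
      rw [hgK]; exact hx)
    have hle : w ≤ n := by
      have := Submodule.finrank_le W
      rw [hw, Module.finrank_fin_fun] at this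
      omega
    refine Spectrum.hasOrd_mono hle ⟨g', ?_⟩
    rw [orderOf_of_coe hg', ← hg]
    exact orderOf_dvd_of_pow_eq_one ((hpow _).2 ⟨pow_orderOf_eq_one _, by rw [hK1, one_pow]⟩)

/-- Orders `r * p` are the same. -/
theorem hasOrd_iff_mixed (hodd : Odd (Fintype.card F)) {p : ℕ} [hp : Fact p.Prime] [CharP F p]
    {n r : ℕ} (hr : r.Prime) (hr2 : r ≠ 2) (hrp : r ≠ p) :
    Spectrum.HasOrd F n (r * p) ↔ HasOrdO F (2 * n + 1) (r * p) := by
  have h2 : (2 : F) ≠ 0 := two_ne_zero_of_odd (by rwa [Nat.card_eq_fintype_card])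
  have hr' : Odd r := hr.odd_of_ne_two hr2
  have hr0 : (r : F) ≠ 0 := by
    rw [Ne, CharP.cast_eq_zero_iff F p]
    exact fun h => hrp ((Nat.prime_dvd_prime_iff_eq hp.out hr).1 h).symm
  have hcop : Nat.Coprime r p := (Nat.coprime_primes hr hp.out).2 hrp
  constructor
  · rintro ⟨g₀, hg₀⟩
    set g := g₀ ^ (orderOf g₀ / (r * p))
    have hg : orderOf g = r * p := orderOf_pow_orderOf_div (orderOf_pos g₀).ne' hg₀
    obtain ⟨d, w, dK, oW, oK, hdw, hd, -, hO, hK0, hlcm, hK⟩ :=
      exists_parts_symp h2 g p (m := r) (by rw [mul_comm p r, ← hg, pow_orderOf_eq_one]) hr' hr0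
    rw [hg] at hlcm
    have hrW : r ∣ oW := by
      have : r ∣ oW * oK := (hlcm ▸ Dvd.intro p rfl : r ∣ Nat.lcm oW oK).trans (Nat.lcm_dvd_mul _ _)
      exact (hcop.coprime_dvd_right hK).dvd_of_dvd_mul_right this
    rcases (Nat.dvd_prime hp.out).1 hK with h1 | h1
    · rw [h1, Nat.lcm_one_right] at hlcm
      exact hasOrdO_mono h2 (by omega) (hlcm ▸ hO)
    · have := hK0.resolve_left (h1 ▸ hp.out.one_lt.ne')
      have h3 := hasOrdO_add (hasOrdO_dvd hrW hO) (hasOrdO_three_char (p := p) hodd)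
      rw [hcop.lcm_eq_mul] at h3
      exact hasOrdO_mono h2 (by omega) h3
  · rintro ⟨Q, hQ, g₀, hg₀⟩
    set g := g₀ ^ (orderOf g₀ / (r * p))
    have hg : orderOf g = r * p := orderOf_pow_orderOf_div (orderOf_pos g₀).ne' hg₀
    obtain ⟨W, K, w, gW, gK, φ, g', hcompl, -, hKeq, -, hgK, hw, hg', hpow⟩ :=
      exists_parts_orth h2 hQ g p (m := r) (by rw [mul_comm p r, ← hg, pow_orderOf_eq_one]) hr' hr0
    have hKp : gK ^ p = 1 := LinearMap.ext fun x => Subtype.ext (by
      have hx : x.1 ∈ LinearMap.ker (toEnd Q g ^ p - 1) := hKeq ▸ x.2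
      rw [LinearMap.mem_ker, LinearMap.sub_apply, sub_eq_zero] at hx
      have key : ∀ i : ℕ, ((gK ^ i) x : Fin (2 * n + 1) → F) = (toEnd Q g ^ i) x.1 := fun i => by
        induction i with
        | zero => rfl
        | succ i ih => rw [pow_succ', pow_succ', Module.End.mul_apply, Module.End.mul_apply, hgK, ih]; rfl
      rw [key]; exact hx)
    have hdim : finrank F W + finrank F K = 2 * n + 1 := by
      rw [Submodule.finrank_add_eq_of_isCompl hcompl, Module.finrank_fin_fun]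
    have hrW : r ∣ orderOf g' := by
      rw [orderOf_of_coe hg']
      refine (hcop.dvd_of_dvd_mul_right ?_)
      refine (show r ∣ r * p from Dvd.intro p rfl).trans (hg ▸ ?_)
      refine orderOf_dvd_of_pow_eq_one ((hpow _).2 ⟨?_, ?_⟩)
      · rw [pow_mul, pow_orderOf_eq_one, one_pow]
      · rw [pow_mul', hKp, one_pow]
    by_cases hK1 : gK = 1
    · refine Spectrum.hasOrd_mono (show w ≤ n by omega) ⟨g', ?_⟩
      rw [orderOf_of_coe hg', ← hg]
      exact orderOf_dvd_of_pow_eq_one ((hpow _).2 ⟨pow_orderOf_eq_one _, by rw [hK1, one_pow]⟩)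
    · have hK2 : 2 ≤ finrank F K := by
        by_contra h
        exact hK1 (endo_one_dim (by omega) hKp)
      obtain ⟨u, hu⟩ := Spectrum.exists_unipotent (F := F) (p := p) (m := 1) (j := 0) le_rfl (by simp)
      rw [zero_add, pow_one] at hu
      have h3 := Spectrum.hasOrd_add (show Spectrum.HasOrd F w r from ⟨g', hrW⟩)
        (show Spectrum.HasOrd F 1 p from ⟨u, hu⟩)
      rw [hcop.lcm_eq_mul] at h3
      exact Spectrum.hasOrd_mono (by omega) h3

end Move

end Cfsg.Agent.SpecBC
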