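import Cfsg.Agent.SpecBC.Move

/-!
The prime two in the prime graphs of `PΩ_(2n+1)(q)` and `PSp_(2n)(q)`.
-/

set_option autoImplicit false

namespace Cfsg.Agent.SpecBC

open Module QuadraticMap Polynomial Cfsg.Agent.Classical

universe u

variable {F : Type u} [Field F] [Fintype F]

local notation "q" => Fintype.card F

omit [Fintype F] in
/-- The sign of an involution through its fixed points. -/
theorem four_dvd_of_sign {α : Type*} [Fintype α] [DecidableEq α] {σ : Equiv.Perm α} (h : σ ^ 2 = 1)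
    (hs : Equiv.Perm.sign σ = 1) :
    4 ∣ Fintype.card α - Fintype.card (Function.fixedPoints σ) := by
  have hfix : Fintype.card (Function.fixedPoints σ) + σ.support.card = Fintype.card α := by
    rw [← Finset.card_compl_add_card σ.support]
    congr 1
    rw [Fintype.card_subtype]
    congr 1
    ext v; simp [Function.IsFixedPt]
  haveI : Fact (Nat.Prime 2) := ⟨Nat.prime_two⟩
  rw [Equiv.Perm.sign_of_cycleType_eq_replicate two_pos
    (Equiv.Perm.cycleType_of_pow_prime_eq_one h), if_neg (by decide)] at hs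
  have heven : 2 ∣ σ.support.card := by
    rw [← Equiv.Perm.sum_cycleType, Equiv.Perm.cycleType_of_pow_prime_eq_one h, Multiset.sum_replicate]
    exact Dvd.intro_left _ rfl
  have h2 : Even ((Fintype.card α - Fintype.card (Function.fixedPoints σ)) / 2) :=
    (neg_one_pow_eq_one_iff_even (R := ℤˣ) (by decide)).1 hs
  obtain ⟨a, ha⟩ := h2
  obtain ⟨b, hb⟩ := heven
  omega

theorem psp_two_of_hasOrd (h2 : (2 : F) ≠ 0) {n N : ℕ} [NeZero n]
    (h : Spectrum.HasOrd F n (4 * N)) : 2 * N ∈ Set.range (orderOf : Cfsg.PSp n F → ℕ) := by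
  obtain ⟨g, hg⟩ := h
  set π := QuotientGroup.mk' (Subgroup.center (Matrix.symplecticGroup (Fin n) F))
  have hgcd : Nat.gcd 2 (q - 1) ∣ 2 := Nat.gcd_dvd_left _ _
  have hdvd : orderOf g ∣ orderOf (π g) * 2 := by
    have hc : g ^ orderOf (π g) ∈ Subgroup.center (Matrix.symplecticGroup (Fin n) F) :=
      (QuotientGroup.eq_one_iff _).1 (by
        rw [← QuotientGroup.mk'_apply, map_pow]; exact pow_orderOf_eq_one _)
    have h' := orderOf_dvd_natCard (⟨_, hc⟩ : Subgroup.center (Matrix.symplecticGroup (Fin n) F))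
    rw [← Subgroup.orderOf_coe, Linear.Symp.card_center] at h'
    apply orderOf_dvd_of_pow_eq_one
    rw [pow_mul]
    exact orderOf_dvd_iff_pow_eq_one.1 (h'.trans hgcd)
  have h4 : 2 * N * 2 ∣ orderOf (π g) * 2 := by
    rw [show 2 * N * 2 = 4 * N by ring]; exact hg.trans hdvd
  have hN : 2 * N ∣ orderOf (π g) := Nat.dvd_of_mul_dvd_mul_right two_pos h4
  exact ⟨(π g) ^ (orderOf (π g) / (2 * N)), orderOf_pow_orderOf_div (orderOf_pos _).ne' hN⟩

theorem pomega_two_of_hasOrdO (hodd : Odd q) {n N : ℕ} (hn : 3 ≤ n)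
    (h : HasOrdO F (2 * n + 1) (4 * N)) :
    2 * N ∈ Set.range (orderOf : Cfsg.POmega F (Cfsg.quadFormOdd n F) → ℕ) := by
  have h2 : (2 : F) ≠ 0 := two_ne_zero_of_odd (by rwa [Nat.card_eq_fintype_card])
  obtain ⟨g, hg⟩ := exists_OQ_oddQF h2 h
  rw [mem_spectrum_pomega_iff hodd hn]
  have hpos := orderOf_pos g
  set a := g ^ (orderOf g / (4 * N))
  have ha : orderOf a = 4 * N := orderOf_pow_orderOf_div hpos.ne' hg
  have hN : 0 < N := by
    have := Nat.pos_of_dvd_of_pos hg hpos
    omega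
  refine ⟨a * a, Forms.mul_self_mem_commutator (bNondeg_oddQF h2 n)
    (OrthGen.notExceptional_of_two_ne_zero h2) a, ?_⟩
  rw [← pow_two, orderOf_pow' a two_ne_zero, ha,
    Nat.gcd_eq_right (Dvd.dvd.mul_right (by norm_num) N)]
  omega

/-- The order of the torus belonging to `r`. -/
def tor (F : Type u) [Fintype F] (k η : ℕ) : ℕ :=
  if Even k then Fintype.card F ^ η + 1 else Fintype.card F ^ η - 1

section Ops

variable {p r k η : ℕ} [hp : Fact p.Prime] [CharP F p]

theorem eta_le_of_hasOrd (p : ℕ) [Fact p.Prime] [CharP F p] (hr : r.Prime) (hr2 : r ≠ 2)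
    (hrp : r ≠ p) (hk : orderOf (q : ZMod r) = k) (hη : (Odd k ∧ η = k) ∨ (Even k ∧ 2 * η = k))
    {w : ℕ} (h : Spectrum.HasOrd F w r) : η ≤ w := by
  obtain ⟨g₀, hg₀⟩ := h
  set g := g₀ ^ (orderOf g₀ / r)
  have hg : orderOf g = r := orderOf_pow_orderOf_div (orderOf_pos g₀).ne' hg₀
  obtain ⟨f, P, u, -, -, -, hP, -, -, hdeg, hu, -, -, hηu⟩ :=
    SpecGL.exists_prime_class p g (t := 1) hr hr2 hrp hk hη
      (by rw [mul_one, ← hg, pow_orderOf_eq_one])
      (SpecGL.pow_ne_one_of_orderOf hr Nat.one_pos (by rw [mul_one]; exact hg)) hr.not_dvd_one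
  have := SpecGL.natDegree_le_two_mul g hP
  have := Nat.le_of_dvd hu hηu
  omega

/-- With `η = n`, the torus has order divisible by four. -/
theorem four_dvd_tor_of_symp (p : ℕ) [Fact p.Prime] [CharP F p] (hodd : Odd q) (hr : r.Prime)
    (hr2 : r ≠ 2) (hrp : r ≠ p) (hk : orderOf (q : ZMod r) = k)
    (hη : (Odd k ∧ η = k) ∨ (Even k ∧ 2 * η = k)) {n : ℕ} (hηn : η = n)
    (g : Matrix.symplecticGroup (Fin n) F) (h1 : g ^ (r * 4) = 1) (h4 : g ^ 4 ≠ 1)
    (hne1 : (g.1 : Matrix (Fin n ⊕ Fin n) (Fin n ⊕ Fin n) F) ^ r ≠ 1)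
    (hne2 : (g.1 : Matrix (Fin n ⊕ Fin n) (Fin n ⊕ Fin n) F) ^ r ≠ -1) :
    4 ∣ tor F k η := by
  classical
  have hr4 : ¬ r ∣ 4 := fun h => hr2 ((Nat.prime_dvd_prime_iff_eq hr Nat.prime_two).1
    (hr.dvd_of_dvd_pow (show r ∣ 2 ^ 2 from h)))
  obtain ⟨f, P, w, hf, hf4, hft, hP, hPm, hPsq, hdeg, hw, hPz, hwc, hηw⟩ :=
    SpecGL.exists_prime_class p g hr hr2 hrp hk hη h1 h4 hr4
  have hdle := SpecGL.natDegree_le_two_mul g hP
  have hwn : w = n := le_antisymm (by omega) (hηn ▸ Nat.le_of_dvd hw hηw)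
  have hchar : P = (g.1 : Matrix (Fin n ⊕ Fin n) (Fin n ⊕ Fin n) F).charpoly :=
    (eq_of_monic_of_dvd_of_natDegree_le hPm (Matrix.charpoly_monic _) hP (by
      rw [Matrix.charpoly_natDegree_eq_dim, Fintype.card_sum, Fintype.card_fin, hdeg, hwn, two_mul])).symm
  -- a polynomial vanishing on the roots of `f` and of `P` vanishes at `g`
  have hkill : ∀ R : F[X], (∀ z : F[X], Irreducible z → z ∣ P → z ∣ R) → aeval g.1 R = 0 := by
    intro R hR
    have hPR : P ∣ R := by
      obtain ⟨G, hG⟩ := gcd_dvd_left P R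
      by_cases hu : IsUnit G
      · rw [hG]
        exact (hu.mul_right_dvd).2 (gcd_dvd_right P R)
      · exfalso
        have hG0 : G ≠ 0 := fun h => hPm.ne_zero (by rw [hG, h, mul_zero])
        obtain ⟨z, hz, hzG⟩ := WfDvdMonoid.exists_irreducible_factor hu hG0
        have hzP : z ∣ P := hG ▸ hzG.mul_left _
        have hz2 : z * z ∣ P := hG ▸ mul_dvd_mul (dvd_gcd hzP (hR z hz hzP)) hzG
        exact hz.not_isUnit (hPsq z hz2)
    obtain ⟨v, hv⟩ := hPR
    rw [hv, map_mul, hchar, Matrix.aeval_self_charpoly, zero_mul]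
  haveI := Fact.mk hf
  set μ := AdjoinRoot.root f
  have hdvd : ∀ N : ℕ, f ∣ X ^ N - 1 ↔ μ ^ N = 1 := fun N => by
    rw [← AdjoinRoot.mk_eq_zero, map_sub, map_pow, AdjoinRoot.mk_X, map_one, sub_eq_zero]
  have h2r : ¬ f ∣ X ^ (r * 2) - 1 := by
    intro h
    by_cases hfr : f ∣ X ^ r - 1
    · apply hne1
      have := hkill (X ^ r - 1) fun z hz hzP => (hPz z hz hzP r).2 hfr
      rwa [map_sub, map_pow, aeval_X, map_one, sub_eq_zero] at this
    · apply hne2
      have := hkill (X ^ r + 1) fun z hz hzP => by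
        have h' := (hPz z hz hzP (r * 2)).2 h
        rw [pow_mul, show ((X : F[X]) ^ r) ^ 2 - 1 = (X ^ r - 1) * (X ^ r + 1) by ring] at h'
        exact (hz.prime.dvd_or_dvd h').resolve_left fun h'' => hfr ((hPz z hz hzP r).1 h'')
      rwa [map_add, map_pow, aeval_X, map_one, add_eq_zero_iff_eq_neg] at this
  rw [hdvd] at h2r hf4
  have hord : orderOf (μ ^ r) = 2 ^ (1 + 1) := by
    refine orderOf_eq_prime_pow ?_ ?_
    · rw [pow_one, ← pow_mul]; exact h2r
    · rw [← pow_mul]; exact hf4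
  have key : ∀ N : ℕ, μ ^ N = 1 → 4 ∣ N := by
    intro N hN
    have : orderOf (μ ^ r) ∣ N := orderOf_dvd_of_pow_eq_one (by
      rw [← pow_mul, mul_comm, pow_mul, hN, one_pow])
    rwa [hord] at this
  have hμ0 : μ ≠ 0 := fun h => by
    rw [h, zero_pow (by have := hr.pos; omega)] at hf4; exact zero_ne_one hf4
  obtain ⟨-, hcase⟩ := SpecGL.weight_cases hf hr hr2 hk hη (hdvd _ |>.2 hf4) hft hwc
  rcases hcase with ⟨hd, hkw⟩ | ⟨hd, hk2, -⟩
  · have hkodd : Odd k := by
      rcases hη with ⟨h, -⟩ | ⟨he, h2k⟩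
      · exact h
      · exfalso
        rw [hwn, ← hηn, ← h2k] at hkw
        have := Nat.le_of_dvd (by omega) hkw
        omega
    rw [tor, if_neg (Nat.not_even_iff_odd.2 hkodd)]
    refine key _ ?_
    haveI : Fintype (AdjoinRoot f) := by
      haveI : Module.Finite F (AdjoinRoot f) := (AdjoinRoot.powerBasis hf.ne_zero).finite
      haveI : Finite (AdjoinRoot f) := Module.finite_of_finite F
      exact Fintype.ofFinite _
    have hcard : Fintype.card (AdjoinRoot f) = q ^ η := by
      rw [← Nat.card_eq_fintype_card, SpecGL.natCard_adjoinRoot hf, hd, hwn, hηn]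
    rw [← hcard]
    exact FiniteField.pow_card_sub_one_eq_one μ hμ0
  · rw [tor, if_pos (hk2 ▸ even_two_mul η)]
    refine key _ ?_
    rcases hwc with h | ⟨-, h⟩
    · omega
    · rwa [hdvd, hwn, ← hηn] at h

theorem mem_psp_two_iff (p : ℕ) [Fact p.Prime] [CharP F p] (hodd : Odd q) (hr : r.Prime)
    (hr2 : r ≠ 2) (hrp : r ≠ p) (hk : orderOf (q : ZMod r) = k)
    (hη : (Odd k ∧ η = k) ∨ (Even k ∧ 2 * η = k)) {n : ℕ} (hn : 3 ≤ n) :
    2 * r ∈ Set.range (orderOf : Cfsg.PSp n F → ℕ) ↔ η < n ∨ (η = n ∧ 4 ∣ tor F k η) := by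
  haveI : NeZero n := ⟨by omega⟩
  have h2 : (2 : F) ≠ 0 := two_ne_zero_of_odd (by rwa [Nat.card_eq_fintype_card])
  have hr' := hr.odd_of_ne_two hr2
  have hcop : Nat.Coprime 4 r :=
    ((Nat.coprime_primes Nat.prime_two hr).2 (Ne.symm hr2)).pow_left 2
  obtain ⟨hη0, htor⟩ := SpecGL.torus_dvd hr (SpecGL.not_dvd_card p hr hrp).1 hk hη
  constructor
  · rintro ⟨x, hx⟩
    have hsq : orderOf (x ^ 2) = r := by
      rw [orderOf_pow' x two_ne_zero, hx, Nat.gcd_eq_right (Dvd.intro r rfl)]
      omega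
    have hle : η ≤ n :=
      eta_le_of_hasOrd p hr hr2 hrp hk hη ((mem_spectrum_psp_odd hr').1 ⟨_, hsq⟩)
    rcases hle.lt_or_eq with h | h
    · exact Or.inl h
    refine Or.inr ⟨h, ?_⟩
    obtain ⟨g, rfl⟩ := QuotientGroup.mk'_surjective _ x
    set π := QuotientGroup.mk' (Subgroup.center (Matrix.symplecticGroup (Fin n) F))
    have hc : g ^ (2 * r) ∈ Subgroup.center (Matrix.symplecticGroup (Fin n) F) :=
      (QuotientGroup.eq_one_iff _).1 (by
        rw [← QuotientGroup.mk'_apply, map_pow, ← hx, pow_orderOf_eq_one])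
    have h1 : g ^ (r * 4) = 1 := by
      obtain ⟨a, ha, hga⟩ := Linear.Symp.center_scalar hc
      refine Linear.Symp.sp_ext fun v => ?_
      rw [show r * 4 = 2 * r + 2 * r by ring, pow_add, Linear.Symp.app_mul, hga, hga, smul_smul,
        ← pow_two, ha, one_smul, Linear.Symp.app_one]
    have hnot : ∀ (i : ℕ) (a : F), (g.1 : Matrix (Fin n ⊕ Fin n) (Fin n ⊕ Fin n) F) ^ i = a • 1 →
        2 * r ∣ i := by
      intro i a hi
      rw [← hx, orderOf_dvd_iff_pow_eq_one, ← map_pow, QuotientGroup.mk'_apply,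
        QuotientGroup.eq_one_iff, Subgroup.mem_center_iff]
      intro y
      refine Subtype.ext ?_
      rw [Submonoid.coe_mul, Submonoid.coe_mul, SubmonoidClass.coe_pow, hi, Matrix.mul_smul,
        Matrix.smul_mul, mul_one, one_mul]
    refine four_dvd_tor_of_symp p hodd hr hr2 hrp hk hη h g h1 (fun e => ?_) (fun e => ?_)
      fun e => ?_
    · have := hnot 4 1 (by rw [one_smul, ← SubmonoidClass.coe_pow, e]; rfl)
      have : r ∣ 4 := (Dvd.intro_left 2 rfl).trans this
      exact hr.ne_one (Nat.eq_one_of_dvd_coprimes hcop this dvd_rfl)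
    · have := hnot r 1 (by rw [one_smul, e])
      have := Nat.le_of_dvd hr.pos this
      have := hr.pos
      omega
    · have := hnot r (-1) (by rw [neg_one_smul, e])
      have := Nat.le_of_dvd hr.pos this
      have := hr.pos
      omega
  · intro h
    refine psp_two_of_hasOrd h2 ?_
    rcases h with h | ⟨rfl, h4⟩
    · have h' := Spectrum.hasOrd_add (hasOrd_one_four (F := F) h2)
        (SpecGL.hasOrd_prime hr (SpecGL.not_dvd_card p hr hrp).1 hk hη)
      rw [hcop.lcm_eq_mul] at h'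
      exact Spectrum.hasOrd_mono (by omega) h'
    · obtain ⟨g, hg⟩ := Spectrum.exists_torus_sp F (d := η) hη0 (tor F k η) (by
        rw [tor]; split_ifs <;> simp)
      exact ⟨g, hg ▸ hcop.mul_dvd_of_dvd_of_dvd h4 (by rw [tor]; exact htor)⟩

theorem mem_pomega_two_iff (p : ℕ) [Fact p.Prime] [CharP F p] (hodd : Odd q) (hr : r.Prime)
    (hr2 : r ≠ 2) (hrp : r ≠ p) (hk : orderOf (q : ZMod r) = k)
    (hη : (Odd k ∧ η = k) ∨ (Even k ∧ 2 * η = k)) {n : ℕ} (hn : 3 ≤ n) :
    2 * r ∈ Set.range (orderOf : Cfsg.POmega F (Cfsg.quadFormOdd n F) → ℕ) ↔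
      η < n ∨ (η = n ∧ 4 ∣ tor F k η) := by
  classical
  haveI : NeZero n := ⟨by omega⟩
  have h2 : (2 : F) ≠ 0 := two_ne_zero_of_odd (by rwa [Nat.card_eq_fintype_card])
  have hr' := hr.odd_of_ne_two hr2
  have hr0 : (r : F) ≠ 0 := (SpecGL.not_dvd_card p hr hrp).2
  have hcop : Nat.Coprime 4 r :=
    ((Nat.coprime_primes Nat.prime_two hr).2 (Ne.symm hr2)).pow_left 2
  obtain ⟨hη0, htor⟩ := SpecGL.torus_dvd hr (SpecGL.not_dvd_card p hr hrp).1 hk hη
  constructor
  · rw [mem_spectrum_pomega_iff hodd hn]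
    set Q := oddQF n F
    rintro ⟨g, hgc, hg⟩
    have hB : BNondeg Q := bNondeg_oddQF (F := F) h2 n
    obtain ⟨W, K, w, gW, gK, φ, g', hcompl, -, hKeq, hgW, hgK, hw, hg', hpow⟩ :=
      exists_parts_orth h2 hB g 2 (m := r) (by rw [← hg, pow_orderOf_eq_one]) hr' hr0
    have hKker : ∀ x, x ∈ K ↔ g.1 (g.1 x) = x := fun x => by
      rw [hKeq, LinearMap.mem_ker, LinearMap.sub_apply, sub_eq_zero, pow_two]; rfl
    have hK2 : gK ^ 2 = 1 := LinearMap.ext fun x => Subtype.ext (by
      rw [pow_two, Module.End.mul_apply, hgK, hgK]; exact (hKker _).1 x.2)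
    have hW2r : gW ^ (r * 2) = 1 := by
      have := ((hpow (orderOf g)).1 (pow_orderOf_eq_one g)).1
      rwa [hg, mul_comm] at this
    have hrW : r ∣ orderOf g' := by
      rw [orderOf_of_coe hg']
      refine ((Nat.coprime_primes hr Nat.prime_two).2 hr2).dvd_of_dvd_mul_right ?_
      refine (show r ∣ 2 * r from Dvd.intro_left 2 rfl).trans (hg ▸ ?_)
      refine orderOf_dvd_of_pow_eq_one ((hpow _).2 ⟨?_, ?_⟩)
      · rw [pow_mul, pow_orderOf_eq_one, one_pow]
      · rw [pow_mul', hK2, one_pow]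
    have hwle : η ≤ w := eta_le_of_hasOrd p hr hr2 hrp hk hη ⟨g', hrW⟩
    have hdim : finrank F W + finrank F K = 2 * n + 1 := by
      rw [Submodule.finrank_add_eq_of_isCompl hcompl, finrank_oddQF]
    rcases (show η < n ∨ η = n by omega) with h | h
    · exact Or.inl h
    refine Or.inr ⟨h, ?_⟩
    obtain rfl : w = n := by omega
    have hK1 : finrank F K = 1 := by omega
    have hKr : gK ^ r = gK := by
      obtain ⟨c, hc⟩ := hr'
      rw [hc, pow_succ, pow_mul, hK2, one_pow, one_mul]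
    have hgr : ∀ x : (Unit ⊕ (Fin w ⊕ Fin w) → F), (g ^ r).1 x = (toEnd Q g ^ r) x := fun x => by
      rw [← map_pow]; rfl
    have hWr : ∀ x : W, ((gW ^ r) x : (Unit ⊕ (Fin w ⊕ Fin w) → F)) = (g ^ r).1 x := fun x => by
      rw [hgr]
      have key : ∀ i : ℕ, ((gW ^ i) x : (Unit ⊕ (Fin w ⊕ Fin w) → F)) = (toEnd Q g ^ i) x.1 := fun i => by
        induction i with
        | zero => rfl
        | succ i ih => rw [pow_succ', pow_succ', Module.End.mul_apply, Module.End.mul_apply, hgW, ih]; rfl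
      exact key r
    have hKr' : ∀ x : K, (g ^ r).1 x = gK x := fun x => by
      conv_rhs => rw [← hKr]
      rw [hgr]
      have key : ∀ i : ℕ, ((gK ^ i) x : (Unit ⊕ (Fin w ⊕ Fin w) → F)) = (toEnd Q g ^ i) x.1 := fun i => by
        induction i with
        | zero => rfl
        | succ i ih => rw [pow_succ', pow_succ', Module.End.mul_apply, Module.End.mul_apply, hgK, ih]; rfl
      exact (key r).symm
    -- the scalar on the line `K`
    obtain ⟨v0, hv0, hs0⟩ := finrank_eq_one_iff'.1 hK1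
    obtain ⟨c, hc⟩ := hs0 (gK v0)
    have hgKc : ∀ x, gK x = c • x := fun x => by
      obtain ⟨a, rfl⟩ := hs0 x
      rw [map_smul, ← hc, smul_comm]
    have hc2 : c = 1 ∨ c = -1 := by
      have e : gK (gK v0) = v0 := by rw [← Module.End.mul_apply, ← pow_two, hK2]; rfl
      rw [hgKc, hgKc, smul_smul] at e
      have : (c * c - 1) • v0 = 0 :=
        (sub_smul (c * c) 1 v0).trans (by rw [e, one_smul, sub_self])
      exact mul_self_eq_one_iff.1 (sub_eq_zero.1 ((smul_eq_zero.1 this).resolve_right hv0))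
    have hy : g ^ r ∈ commutator (OQ Q) := pow_mem hgc r
    obtain ⟨hyd, hys⟩ := (Forms.mem_commutator_OQ_iff hB
      (OrthGen.notExceptional_of_two_ne_zero h2) (g ^ r)).1 hy
    have hsplit : ∀ x : (Unit ⊕ (Fin w ⊕ Fin w) → F), ∃ a ∈ W, ∃ b ∈ K, x = a + b := fun x => by
      obtain ⟨a, ha, b, hb, rfl⟩ :=
        Submodule.mem_sup.1 (hcompl.sup_eq_top ▸ Submodule.mem_top : x ∈ _)
      exact ⟨a, ha, b, hb, rfl⟩
    have hdV : finrank F (Unit ⊕ (Fin w ⊕ Fin w) → F) = 2 * w + 1 := finrank_oddQF w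
    have hhalf : ∀ a : (Unit ⊕ (Fin w ⊕ Fin w) → F), a = -a → a = 0 := fun a ha => by
      have : (2 : F) • a = 0 := by rw [two_smul]; nth_rewrite 2 [ha]; exact add_neg_cancel a
      exact (smul_eq_zero.1 this).resolve_left h2
    by_cases hW1 : gW ^ r = 1
    · exfalso
      rcases hc2 with rfl | rfl
      · have : g ^ r = 1 := by
          rw [hpow]
          refine ⟨hW1, LinearMap.ext fun x => ?_⟩
          rw [hKr, hgKc, one_smul, Module.End.one_apply]
        have := Nat.le_of_dvd hr.pos (hg ▸ orderOf_dvd_of_pow_eq_one this)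
        have := hr.pos
        omega
      · have hfix : fixSpace (g ^ r) = W := by
          ext x
          rw [mem_fixSpace]
          obtain ⟨a, ha, b, hb, rfl⟩ := hsplit x
          have ea : (g ^ r).1 a = a := by rw [← hWr ⟨a, ha⟩, hW1]; rfl
          have eb : (g ^ r).1 b = -b := by
            rw [hKr' ⟨b, hb⟩, hgKc, Submodule.coe_smul, neg_one_smul]
          rw [map_add, ea, eb]
          constructor
          · intro e
            rw [hhalf b (add_left_cancel e).symm, add_zero]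
            exact ha
          · intro e
            have hb' : b ∈ W := by simpa using W.sub_mem e ha
            rw [Submodule.disjoint_def.1 hcompl.disjoint b hb' hb, neg_zero]
        rw [Cfsg.Agent.Classical.dickson, hfix, hw, hdV, show 2 * w + (2 * w + 1) = 2 * (2 * w) + 1 by ring, pow_succ,
          pow_mul] at hyd
        simp at hyd
    by_cases hW2 : gW ^ r = -1
    swap
    · refine four_dvd_tor_of_symp p hodd hr hr2 hrp hk hη h g' ?_ ?_ ?_ ?_
      · apply Subtype.ext
        rw [SubmonoidClass.coe_pow, hg', ← map_pow, show r * 4 = r * 2 * 2 by ring, pow_mul, hW2r,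
          one_pow, map_one]
        rfl
      · intro e
        have := hrW.trans (orderOf_dvd_of_pow_eq_one e)
        exact hr.ne_one (Nat.eq_one_of_dvd_coprimes hcop this dvd_rfl)
      · rw [hg', ← map_pow, Ne, map_eq_one_iff _ φ.injective]
        exact hW1
      · rw [hg', ← map_pow, ← map_one φ, ← map_neg, Ne, φ.injective.eq_iff]
        exact hW2
    have hWneg : ∀ a ∈ W, (g ^ r).1 a = -a := fun a ha => by
      rw [← hWr ⟨a, ha⟩, hW2]; rfl
    rcases hc2 with rfl | rfl
    swap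
    · exfalso
      have hfix : fixSpace (g ^ r) = ⊥ := by
        rw [eq_bot_iff]
        intro x hx
        rw [mem_fixSpace] at hx
        obtain ⟨a, ha, b, hb, rfl⟩ := hsplit x
        rw [map_add, hWneg a ha, hKr' ⟨b, hb⟩, hgKc, Submodule.coe_smul, neg_one_smul] at hx
        refine (Submodule.mem_bot F).2 (hhalf _ ?_)
        rw [neg_add]
        exact hx.symm
      rw [Cfsg.Agent.Classical.dickson, hfix, finrank_bot, hdV, zero_add, pow_succ, pow_mul] at hyd
      simp at hyd
    -- counting the vectors of value one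
    haveI : Fintype {v : (Unit ⊕ (Fin w ⊕ Fin w) → F) // Q v = 1} := Fintype.ofFinite _
    have hs : Equiv.Perm.sign (levelPerm Q 1 (g ^ r)) = 1 := by
      rw [← levelSign_eq]; exact hys h2
    have hinv : (levelPerm Q 1 (g ^ r)) ^ 2 = 1 := by
      rw [← map_pow, ← pow_mul, mul_comm, ← hg, pow_orderOf_eq_one, map_one]
    have h4 := four_dvd_of_sign hinv hs
    have hfixy : ∀ v : {v : (Unit ⊕ (Fin w ⊕ Fin w) → F) // Q v = 1}, levelPerm Q 1 (g ^ r) v = v ↔ v.1 ∈ K := fun v => by
      rw [Subtype.ext_iff]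
      show (g ^ r).1 v.1 = v.1 ↔ _
      obtain ⟨a, ha, b, hb, hab⟩ := hsplit v.1
      rw [hab, map_add, hWneg a ha, hKr' ⟨b, hb⟩, hgKc, one_smul]
      constructor
      · intro e
        rw [hhalf a (add_right_cancel e).symm, zero_add]
        exact hb
      · intro e
        have ha' : a ∈ K := by simpa using K.sub_mem e hb
        rw [Submodule.disjoint_def.1 hcompl.disjoint a ha ha', neg_zero]
    have hmod := Equiv.Perm.card_compl_support_modEq (p := r) (n := 1) (hp := ⟨hr⟩)
      (σ := levelPerm Q 1 (g ^ 2)) (by rw [pow_one, ← map_pow, ← pow_mul, ← hg, pow_orderOf_eq_one, map_one])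
    set c0 := Fintype.card (Function.fixedPoints (levelPerm Q 1 (g ^ r))) with hc0
    have hc0' : (levelPerm Q 1 (g ^ 2)).supportᶜ.card = c0 := by
      rw [hc0, Fintype.card_subtype]
      congr 1
      ext v
      simp only [Finset.mem_compl, Equiv.Perm.notMem_support, Finset.mem_filter, Finset.mem_univ,
        true_and, Function.mem_fixedPoints, Function.IsFixedPt, hfixy, hKker]
      rw [Subtype.ext_iff]
      rfl
    rw [hc0'] at hmod
    have hL : Fintype.card {v : (Unit ⊕ (Fin w ⊕ Fin w) → F) // Q v = 1} = q ^ (2 * w) + q ^ w := by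
      rw [← Nat.card_eq_fintype_card, card_level_odd h2]
    rw [hL] at hmod h4
    have hcases : c0 = 0 ∨ c0 = 2 := by
      rcases Nat.eq_zero_or_pos c0 with h0 | h0
      · exact Or.inl h0
      · obtain ⟨⟨x, hx⟩⟩ := Fintype.card_pos_iff.1 h0
        right
        have hx0 : x.1 ≠ 0 := fun e => by
          have := x.2; rw [e, QuadraticMap.map_zero] at this; exact zero_ne_one this
        have hxK : x.1 ∈ K := (hfixy x).1 hx
        let y : {v : (Unit ⊕ (Fin w ⊕ Fin w) → F) // Q v = 1} := ⟨-x.1, by rw [QuadraticMap.map_neg]; exact x.2⟩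
        have hy' : y ∈ Function.fixedPoints (levelPerm Q 1 (g ^ r)) :=
          (hfixy y).2 (K.neg_mem hxK)
        rw [hc0, Fintype.card_eq_nat_card, Nat.card_eq_two_iff' (⟨x, hx⟩ : Function.fixedPoints _)]
        refine ⟨⟨y, hy'⟩, fun e => hx0 (hhalf _ ?_), fun z hz => ?_⟩
        · exact (congrArg (fun z => z.1.1) e).symm
        · apply Subtype.ext; apply Subtype.ext
          obtain ⟨a, ha⟩ := hs0 ⟨z.1.1, (hfixy z.1).1 z.2⟩
          obtain ⟨b, hb⟩ := hs0 ⟨x.1, hxK⟩
          have ha' : a • (v0 : (Unit ⊕ (Fin w ⊕ Fin w) → F)) = z.1.1 := congrArg Subtype.val ha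
          have hb' : b • (v0 : (Unit ⊕ (Fin w ⊕ Fin w) → F)) = x.1 := congrArg Subtype.val hb
          have e1 := z.1.2
          have e2 := x.2
          rw [← ha', QuadraticMap.map_smul, smul_eq_mul] at e1
          rw [← hb', QuadraticMap.map_smul, smul_eq_mul] at e2
          have hQ0 : Q (v0 : (Unit ⊕ (Fin w ⊕ Fin w) → F)) ≠ 0 := fun e0 => by rw [e0, mul_zero] at e1; exact zero_ne_one e1
          have hab : a * a = b * b := mul_right_cancel₀ hQ0 (e1.trans e2.symm)
          rcases mul_self_eq_mul_self_iff.1 hab with e | e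
          · exact absurd (Subtype.ext (Subtype.ext (by rw [← ha', e, hb']))) hz
          · show z.1.1 = -x.1
            rw [← ha', e, neg_smul, hb']
    set B := q ^ w with hB'
    have hBB : q ^ (2 * w) = B * B := by rw [hB', ← pow_add, two_mul]
    have hBodd : Odd B := hodd.pow
    have hB1 : 1 ≤ B := hBodd.pos
    clear_value B
    rw [hBB] at hmod h4
    rw [tor]
    rw [h] at htor ⊢
    rw [← hB'] at htor ⊢
    split_ifs at htor ⊢ with he
    · -- `B = -1` modulo `r`
      have h0 : c0 = 0 := by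
        rcases hcases with h0 | h0
        · exact h0
        · exfalso
          rw [h0] at hmod
          have hd : r ∣ B * B + B := by
            rw [show B * B + B = B * (B + 1) by ring]; exact htor.mul_left B
          have h2' : r ∣ 2 := (Nat.modEq_zero_iff_dvd).1
            (hmod.trans (Nat.modEq_zero_iff_dvd.2 hd))
          exact hr2 ((Nat.prime_dvd_prime_iff_eq hr Nat.prime_two).1 h2')
      rw [h0, Nat.sub_zero, show B * B + B = B * (B + 1) by ring] at h4
      exact ((Nat.coprime_two_right.2 hBodd).pow_right 2).symm.dvd_of_dvd_mul_left h4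
    · have h0 : c0 = 2 := by
        rcases hcases with h0 | h0
        · exfalso
          rw [h0] at hmod
          have hd : r ∣ B * B + B := Nat.modEq_zero_iff_dvd.1 hmod.symm
          have e : B * B + B = (B - 1) * (B + 2) + 2 := by
            obtain ⟨b, rfl⟩ : ∃ b, B = b + 1 := ⟨B - 1, by omega⟩
            rw [Nat.add_sub_cancel]; ring
          rw [e] at hd
          have h2' : r ∣ 2 := (Nat.dvd_add_right (htor.mul_right _)).1 hd
          exact hr2 ((Nat.prime_dvd_prime_iff_eq hr Nat.prime_two).1 h2')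
        · exact h0
      have e : B * B + B - 2 = (B - 1) * (B + 2) := by
        obtain ⟨b, rfl⟩ : ∃ b, B = b + 1 := ⟨B - 1, by omega⟩
        rw [Nat.add_sub_cancel]
        have : (b + 1) * (b + 1) + (b + 1) = b * (b + 1 + 2) + 2 := by ring
        omega
      rw [h0, e] at h4
      exact ((Nat.coprime_two_right.2 (hBodd.add_even even_two)).pow_right 2).symm.dvd_of_dvd_mul_right h4
  · intro h
    refine pomega_two_of_hasOrdO hodd hn ?_
    rcases h with h | ⟨rfl, h4⟩
    · have h' := hasOrdO_add (hasOrdO_two_four (F := F) h2)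
        ((hasOrd_iff_semisimple hodd hr' hr0).1
          (SpecGL.hasOrd_prime hr (SpecGL.not_dvd_card p hr hrp).1 hk hη))
      rw [hcop.lcm_eq_mul] at h'
      exact hasOrdO_mono h2 (by omega) h'
    · obtain ⟨g, hg⟩ := Spectrum.exists_torus_sp F (d := η) hη0 (tor F k η) (by
        rw [tor]; split_ifs <;> simp)
      have hT0 : tor F k η ≠ 0 := hg ▸ (orderOf_pos g).ne'
      set T := tor F k η
      have hm : Odd (r ^ T.factorization r) := hr'.pow
      have hm0 : ((r ^ T.factorization r : ℕ) : F) ≠ 0 := by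
        rw [Nat.cast_pow]; exact pow_ne_zero _ hr0
      obtain ⟨d, w, dK, oW, oK, hdw, hd, hwW, hO, hK0, hlcm, hK⟩ :=
        exists_parts_symp h2 g (T / r ^ T.factorization r) (m := r ^ T.factorization r)
          (by rw [Nat.div_mul_cancel (Nat.ordProj_dvd T r), ← hg, pow_orderOf_eq_one]) hm hm0
      have hrT : r ∣ T := by rw [show T = tor F k η from rfl, tor]; exact htor
      have hrK : ¬ r ∣ oK := fun h => Nat.not_dvd_ordCompl hr hT0 (h.trans hK)
      have hrW : r ∣ oW := by
        have : r ∣ oW * oK := (hrT.trans (hg ▸ hlcm ▸ dvd_rfl)).trans (Nat.lcm_dvd_mul oW oK)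
        exact (hr.dvd_mul.1 this).resolve_right hrK
      have hwge : η ≤ w := eta_le_of_hasOrd p hr hr2 hrp hk hη (by
        obtain ⟨a, ha⟩ := hwW; exact ⟨a, hrW.trans ha⟩)
      have hK1 : oK = 1 := hK0.resolve_right (by omega)
      rw [hK1, Nat.lcm_one_right, hg] at hlcm
      exact hasOrdO_mono h2 (by omega)
        (hasOrdO_dvd (hlcm ▸ hcop.mul_dvd_of_dvd_of_dvd h4 hrT) hO)

end Ops

end Cfsg.Agent.SpecBC
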